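import Cfsg.Agent.Lib.Involutions.RankOne.U3.Bridge.Galois

/-!
# The branch `|Q| = q³`, U7: the coordinates of `Q` for the action of `K W`
-/

set_option autoImplicit false
set_option linter.unusedSectionVars false
set_option linter.style.haveILetI false

namespace Cfsg.Agent.Involutions.RankOne.U3

open MulAction Involutions.Basic

universe uG uO uF

variable {G : Type uG} {Ω : Type uO} [Group G] [Finite G] [MulAction G Ω] [FaithfulSMul G Ω] {a : Ω} {t : G}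
  {Q : Subgroup G} {n : ℕ} {F : Type uF} [Field F] [Fintype F] [CharP F 2]

/-- A coordinate `α` of `Q / Z(Q)` in which `K W` acts by scalars and squaring is `A`;
`β` is a second coordinate, multiplied by the norm of the scalar. -/
structure Scale (fr : Frame a t Q n F) (α β : Q → F) (A : F → F) : Prop where
  add : ∀ u v, α (u * v) = α u + α v
  ker : ∀ u : Q, α u = 0 ↔ (u : G) ∈ Zc Q
  surj : Function.Surjective α
  sq : ∀ u : Q, (u : G) * u = fr.ζ (A (α u))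
  A_real : ∀ x, A x ^ (2 ^ n) = A x
  A_zero : A 0 = 0
  A_ne : ∀ x, x ≠ 0 → A x ≠ 0
  cover : ∀ δ, InDelta n δ → ∃ (e : F) (w : G), e ≠ 0 ∧ e ^ (2 ^ n) = e ∧ w ∈ W a t ∧
    (fr.κ e * w) ^ ((2 ^ n - 1) * Fld.cm n) = 1 ∧
    (∀ u v : Q, (v : G) = fr.κ e * w * u * (fr.κ e * w)⁻¹ →
      α v = δ * α u ∧ β v = δ ^ (2 ^ n + 1) * β u) ∧
    ∀ x, A (δ * x) = e ^ 2 * A x

variable (h : Setting G Ω a t Q n) (fr : Frame a t Q n F)
include h

/-- The inverse of the coordinate of `Z(Q)`. -/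
noncomputable def zinv (z : Subgroup.center Q) : F :=
  (fr.coords.ζ_surj ((z : Q) : G) ⟨z, z.2, rfl⟩).choose

theorem zinv_spec (z : Subgroup.center Q) :
    zinv fr z ^ (2 ^ n) = zinv fr z ∧ fr.ζ (zinv fr z) = ((z : Q) : G) :=
  (fr.coords.ζ_surj ((z : Q) : G) ⟨z, z.2, rfl⟩).choose_spec

theorem zinv_eq {z : Subgroup.center Q} {x : F} (hx : x ^ (2 ^ n) = x)
    (e : fr.ζ x = ((z : Q) : G)) : zinv fr z = x :=
  fr.coords.ζ_inj _ _ (zinv_spec h fr z).1 hx ((zinv_spec h fr z).2.trans e.symm)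

theorem sq_mem_center (u : Q) : u * u ∈ Subgroup.center Q := (S1138.result h.suzuki).1 u

theorem cm_dvd_W (hidx : IndexGoal a t n) : Fld.cm n ∣ Nat.card (W a t) := by
  unfold IndexGoal at hidx
  rw [← Fld.cd_mul_cm n, Fld.cd] at hidx
  rcases Nat.even_or_odd n with he | ho
  · rw [if_neg (Nat.not_odd_iff_even.2 he), one_mul] at hidx
    refine Nat.Coprime.dvd_of_dvd_mul_left ?_ hidx
    have e := Fld.cd_mul_cm n
    rw [Fld.cd, if_neg (Nat.not_odd_iff_even.2 he), one_mul] at e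
    rw [e]
    refine Nat.Coprime.symm ((Nat.Prime.coprime_iff_not_dvd Nat.prime_three).2 fun hd => ?_)
    obtain ⟨j, rfl⟩ := he
    rw [Nat.dvd_iff_mod_eq_zero, ← two_mul, pow_mul, Nat.add_mod, Nat.pow_mod] at hd
    norm_num at hd
  · rw [if_pos ho] at hidx
    exact Nat.dvd_of_mul_dvd_mul_left (by norm_num) hidx

theorem coprime_Kc_W : Nat.Coprime (2 ^ n - 1) (2 ^ n + 1) := by
  have h1 : 1 ≤ 2 ^ n := Nat.one_le_two_pow
  rw [show 2 ^ n + 1 = 2 + (2 ^ n - 1) by omega, Nat.coprime_add_self_right, Nat.coprime_two_right]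
  exact Nat.Even.sub_odd h1 (Nat.even_pow.2 ⟨even_two, by linarith [h.two_le]⟩) odd_one

theorem sup_comm {x y : G} (hx : x ∈ Kc a t ⊔ W a t) (hy : y ∈ Kc a t ⊔ W a t)
    (hW : IsCyclic (W a t)) : x * y = y * x := by
  obtain ⟨k, hk, w, hw, rfl⟩ := (mem_sup_iff h).1 hx
  obtain ⟨k', hk', w', hw', rfl⟩ := (mem_sup_iff h).1 hy
  letI := (IsCyclic.commGroup : CommGroup (W a t))
  have e1 : w * w' = w' * w := congrArg Subtype.val (mul_comm (⟨w, hw⟩ : W a t) ⟨w', hw'⟩)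
  calc k * w * (k' * w') = k * (w * k') * w' := by group
    _ = k * (k' * w) * w' := by rw [W_K h hw hk']
    _ = (k * k') * (w * w') := by group
    _ = (k' * k) * (w' * w) := by rw [Kc_comm h hk hk', e1]
    _ = k' * (k * w') * w := by group
    _ = k' * (w' * k) * w := by rw [W_K h hw' hk]
    _ = _ := by group

theorem sup_cyclic (hW : IsCyclic (W a t)) : IsCyclic ↥(Kc a t ⊔ W a t) := by
  obtain ⟨⟨k, hk⟩, hk'⟩ := IsCyclic.exists_ofOrder_eq_natCard (α := Kc a t) (h := Kc_cyclic h)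
  obtain ⟨⟨w, hw⟩, hw'⟩ := IsCyclic.exists_ofOrder_eq_natCard (α := W a t)
  rw [Subgroup.orderOf_mk] at hk' hw'
  have hm : k * w ∈ Kc a t ⊔ W a t :=
    mul_mem (Subgroup.mem_sup_left hk) (Subgroup.mem_sup_right hw)
  refine isCyclic_of_orderOf_eq_card (⟨k * w, hm⟩ : ↥(Kc a t ⊔ W a t)) ?_
  rw [Subgroup.orderOf_mk, Commute.orderOf_mul_eq_mul_orderOf_of_coprime (W_K h hw hk), hk', hw',
    card_sup h, card_Kc h]
  rw [hk', hw', card_Kc h]
  exact Nat.Coprime.coprime_dvd_right (card_W_dvd h) (coprime_Kc_W h)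

/-- The image of `K W` in `Aut Q`. -/
noncomputable def kwHom : ↥(Kc a t ⊔ W a t) →* MulAut Q :=
  (conjQ h).comp (Subgroup.inclusion (sup_le (Kc_le h) W_le))

theorem kwHom_apply (d : ↥(Kc a t ⊔ W a t)) (x : Q) :
    (kwHom h d x : G) = (d : G) * x * (d : G)⁻¹ := rfl

theorem eq_one_of_coset {d : ↥(Kc a t ⊔ W a t)} {x : Q} (hx : x ∉ Subgroup.center Q)
    (e : kwHom h d x * x⁻¹ ∈ Subgroup.center Q) : d = 1 := by
  obtain ⟨k, hk, w, hw, hd⟩ := (mem_sup_iff h).1 d.2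
  obtain ⟨rfl, rfl⟩ := free h (d := Subgroup.inclusion (sup_le (Kc_le h) W_le) d) hk hw hd.symm
    (x := (x : Qb Q)) (fun e' => hx ((QuotientGroup.eq_one_iff x).1 e')) (by
      rw [bar_mk]
      show ((kwHom h d x : Q) : Qb Q) = x
      rw [QuotientGroup.eq_iff_div_mem, div_eq_mul_inv]
      exact e)
  exact Subtype.ext (by rw [← hd]; simp)

theorem exists_not_central : ∃ x : Q, x ∉ Subgroup.center Q := by
  by_contra hall
  push Not at hall
  have e : Nat.card (Qb Q) = 1 := by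
    rw [Nat.card_eq_one_iff_unique]
    refine ⟨⟨fun p r => ?_⟩, inferInstance⟩
    obtain ⟨p, rfl⟩ := QuotientGroup.mk_surjective p
    obtain ⟨r, rfl⟩ := QuotientGroup.mk_surjective r
    rw [(QuotientGroup.eq_one_iff p).2 (hall p), (QuotientGroup.eq_one_iff r).2 (hall r)]
  rw [card_Qb h] at e
  have := Nat.pow_le_pow_right (show 0 < 2 by norm_num) h.two_le
  have : 1 < (2 ^ n) ^ 2 := Nat.one_lt_pow two_ne_zero (by omega)
  omega

theorem kwHom_inj : Function.Injective (kwHom h) := by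
  obtain ⟨x, hx⟩ := exists_not_central h
  refine (injective_iff_map_eq_one _).2 fun d hd => eq_one_of_coset h hx ?_
  rw [hd, MulAut.one_apply, mul_inv_cancel]
  exact one_mem _

theorem kwHom_zeta {e : F} (he : e ≠ 0) (he' : e ^ (2 ^ n) = e) {w : G} (hw : w ∈ W a t) {z : F}
    (hz : z ^ (2 ^ n) = z) :
    fr.κ e * w * fr.ζ z * (fr.κ e * w)⁻¹ = fr.ζ (e ^ 2 * z) := by
  rw [← fr.coords.conj e z he he' hz]
  calc fr.κ e * w * fr.ζ z * (fr.κ e * w)⁻¹ = fr.κ e * (w * fr.ζ z) * w⁻¹ * (fr.κ e)⁻¹ := by group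
    _ = fr.κ e * (fr.ζ z * w) * w⁻¹ * (fr.κ e)⁻¹ := by rw [W_Zc h hw (fr.coords.ζ_mem z hz)]
    _ = _ := by group

/-- The multiplier of an element of `K W` on the coordinate of `Z(Q)`. -/
theorem exists_chi (c : (kwHom h).range) :
    ∃ x : F, ∀ z z' : Subgroup.center Q, (c : MulAut Q) z = z' →
      zinv fr z' = x * zinv fr z := by
  obtain ⟨_, ⟨d, rfl⟩⟩ := c
  obtain ⟨k, hk, w, hw, hd⟩ := (mem_sup_iff h).1 d.2
  obtain ⟨e, he0, he, rfl⟩ := fr.coords.κ_surj k hk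
  refine ⟨e ^ 2, fun z z' e1 => zinv_eq h fr (mul_fixed (sq_fixed_of he) (zinv_spec h fr z).1) ?_⟩
  rw [← e1]
  show _ = (kwHom h d (z : Q) : G)
  rw [kwHom_apply, ← hd, ← (zinv_spec h fr z).2, kwHom_zeta h fr he0 he hw (zinv_spec h fr z).1]

/-- `Scale` from a scalar action of the image of `K W`. -/
theorem scale_of {α β : Q → F} {A : F → F} (hidx : IndexGoal a t n)
    (hadd : ∀ u v, α (u * v) = α u + α v) (hker : ∀ u, α u = 0 ↔ u ∈ Subgroup.center Q)
    (hsurj : Function.Surjective α)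
    (hsq : ∀ (u : Q) (hu : u * u ∈ Subgroup.center Q), zinv fr ⟨u * u, hu⟩ = A (α u))
    (hact : ∀ c : (kwHom h).range, ∃ δ : F, δ ≠ 0 ∧ ∀ u : Q,
      α ((c : MulAut Q) u) = δ * α u ∧ β ((c : MulAut Q) u) = δ ^ (2 ^ n + 1) * β u) :
    Scale fr α β A := by
  classical
  have hsq' : ∀ u : Q, A (α u) ^ (2 ^ n) = A (α u) ∧ (u : G) * u = fr.ζ (A (α u)) := fun u => by
    have e := zinv_spec h fr ⟨u * u, sq_mem_center h u⟩
    rw [hsq] at e
    exact ⟨e.1, e.2.symm⟩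
  have hkZ : ∀ u : Q, α u = 0 ↔ (u : G) ∈ Zc Q := fun u => (hker u).trans
    ⟨fun hu => ⟨u, hu, rfl⟩, fun ⟨z, hz, e⟩ => Q.subtype_injective e ▸ hz⟩
  have hA0 : A 0 = 0 := by
    obtain ⟨u, hu⟩ := hsurj 0
    obtain ⟨h1, h2⟩ := hsq' u
    rw [Zc_sq h ((hkZ u).1 hu), hu] at h2
    rw [hu] at h1
    exact fr.coords.ζ_inj _ _ h1 (zero_pow (Nat.two_pow_pos n).ne')
      (h2.symm.trans (rel_group h fr.coords).Z_zero.symm)
  refine ⟨hadd, hkZ, hsurj, fun u => (hsq' u).2, fun x => ?_, hA0, fun x hx hAx => ?_, fun δ hδ => ?_⟩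
  · obtain ⟨u, rfl⟩ := hsurj x
    exact (hsq' u).1
  · obtain ⟨u, rfl⟩ := hsurj x
    have e := (hsq' u).2
    rw [hAx, (rel_group h fr.coords).Z_zero] at e
    exact hx ((hkZ u).2 ((mul_self_eq_one_iff h (h.setup.le u.2)).1 e))
  -- the scalars fill the kernel of a power map
  choose dl hdl0 hdl using fun d : ↥(Kc a t ⊔ W a t) => hact ⟨kwHom h d, ⟨d, rfl⟩⟩
  obtain ⟨u₀, hu₀⟩ := hsurj 1
  have hu₀' : u₀ ∉ Subgroup.center Q := fun e => one_ne_zero (hu₀.symm.trans ((hker u₀).2 e))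
  have hpow : ∀ (d : ↥(Kc a t ⊔ W a t)) (i : ℕ), dl (d ^ i) = dl d ^ i := by
    intro d i
    induction i with
    | zero =>
      have e := (hdl (d ^ 0) u₀).1
      simp only [pow_zero, map_one, MulAut.one_apply, hu₀, mul_one] at e
      rw [pow_zero, pow_zero]
      exact e.symm
    | succ i ih =>
      have e := (hdl (d ^ (i + 1)) u₀).1
      have e2 : kwHom h (d ^ (i + 1)) u₀ = kwHom h (d ^ i) (kwHom h d u₀) := by
        rw [pow_succ, map_mul, MulAut.mul_apply]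
      simp only at e
      rw [e2, (hdl (d ^ i) _).1, (hdl d u₀).1, hu₀, mul_one, mul_one, ih] at e
      exact e.symm.trans (pow_succ _ _).symm
  have hinj : Function.Injective dl := by
    intro d d' e
    have e1 : α (kwHom h (d'⁻¹ * d) u₀) = α u₀ := by
      have h1 := (hdl d u₀).1
      rw [e, ← (hdl d' u₀).1] at h1
      simp only at h1
      have h2 := (hdl d'⁻¹ (kwHom h d u₀)).1
      simp only at h2
      rw [h1, ← (hdl d'⁻¹ _).1] at h2
      simp only at h2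
      rw [map_mul, MulAut.mul_apply, h2, ← MulAut.mul_apply, ← map_mul, inv_mul_cancel, map_one,
        MulAut.one_apply]
    refine (inv_mul_eq_one.1 (eq_one_of_coset h hu₀' ((hker _).1 ?_))).symm
    have e2 : α u₀⁻¹ = α u₀ := by
      have := hadd u₀ u₀⁻¹
      rw [mul_inv_cancel, (hker 1).2 (one_mem _)] at this
      exact (CharTwo.add_eq_zero.1 this.symm).symm
    rw [hadd, e1, e2, CharTwo.add_self_eq_zero]
  have hk : Nat.card ↥(Kc a t ⊔ W a t) = (2 ^ n - 1) * Nat.card (W a t) := card_sup h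
  obtain ⟨r, hr⟩ := card_W_dvd h
  obtain ⟨hcard, -⟩ := Fld.pow_kernel h.two_le fr.card_F (m := r)
    (k := (2 ^ n - 1) * Nat.card (W a t)) (by rw [← Fld.sq_sub_one, hr]; ring)
  letI : Fintype ↥(Kc a t ⊔ W a t) := Fintype.ofFinite _
  have himg : Finset.univ.image dl =
      Finset.univ.filter fun y : F => y ^ ((2 ^ n - 1) * Nat.card (W a t)) = 1 := by
    refine Finset.eq_of_subset_of_card_le (fun y hy => ?_) ?_
    · obtain ⟨d, -, rfl⟩ := Finset.mem_image.1 hy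
      rw [Finset.mem_filter, ← hpow, ← hk, pow_card_eq_one']
      refine ⟨Finset.mem_univ _, ?_⟩
      have := hpow d 0
      rwa [pow_zero, pow_zero] at this
    · rw [hcard, Finset.card_image_of_injective _ hinj, Finset.card_univ, ← Nat.card_eq_fintype_card,
        hk]
  have hcls := ((Fld.inDelta_iff h.two_le fr.card_F).1 hδ).2
  rw [Fld.cls] at hcls
  obtain ⟨c, hc⟩ := cm_dvd_W h hidx
  have hδm : δ ∈ Finset.univ.image dl := by
    rw [himg, Finset.mem_filter, hc, ← mul_assoc, pow_mul, hcls, one_pow]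
    exact ⟨Finset.mem_univ _, rfl⟩
  obtain ⟨d, -, rfl⟩ := Finset.mem_image.1 hδm
  obtain ⟨k, hk', w, hw, hd⟩ := (mem_sup_iff h).1 d.2
  obtain ⟨e, he0, he, rfl⟩ := fr.coords.κ_surj k hk'
  refine ⟨e, w, he0, he, hw, ?_, fun u v huv => ?_, fun x => ?_⟩
  · have h1 : d ^ ((2 ^ n - 1) * Fld.cm n) = 1 := hinj (by
      rw [hpow, hcls, ← pow_zero d, hpow, pow_zero])
    rw [hd]
    exact congrArg Subtype.val h1
  · obtain rfl : v = kwHom h d u := Subtype.ext (by rw [kwHom_apply, ← hd]; exact huv)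
    exact hdl d u
  · obtain ⟨u, rfl⟩ := hsurj x
    rw [← (hdl d u).1]
    refine fr.coords.ζ_inj _ _ (hsq' _).1 (mul_fixed (sq_fixed_of he) (hsq' u).1) ?_
    rw [← (hsq' _).2, ← kwHom_zeta h fr he0 he hw (hsq' u).1, ← (hsq' u).2]
    show (kwHom h d u : G) * (kwHom h d u : G) = _
    rw [kwHom_apply, ← hd]
    group

/-- U7: coordinates adapted to the frame. -/
theorem exists_scale {ρ : F} (hC : Stmt.Coordinates.{uG, uF}) (hl : Local fr ρ) (hW : W a t ≠ ⊥)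
    (hidx : IndexGoal a t n) :
    ∃ (α β : Q → F) (A : F → F), Scale fr α β A ∧
      ((A = normForm n ∧ IsCoords n (fun u => (α u, β u)) ∧
          ∀ z, z ^ (2 ^ n) = z → ∀ hz : fr.ζ z ∈ Q, β ⟨fr.ζ z, hz⟩ = z) ∨
        (n = 3 ∧ ∃ (a₀ : F) (r : ℕ), A = fun x => (a₀ * x ^ 3 + (a₀ * x ^ 3) ^ 8) ^ (2 ^ r))) := by
  classical
  choose χ hχ using exists_chi h fr
  haveI := sup_cyclic h hl.W_cyclic
  have hm1 : Nat.card (W a t) ≠ 1 := fun e => hW (Subgroup.card_eq_one.1 e)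
  have hcardC : Nat.card (kwHom h).range = (2 ^ n - 1) * Nat.card (W a t) := by
    rw [← Nat.card_congr (MonoidHom.ofInjective (kwHom_inj h)).toEquiv, card_sup h]
  rcases hC (Q := Q) (F := F) (n := n) (m := Nat.card (W a t)) h.two_le fr.card_F h.card_Q
    h.card_center
    (fun x => ⟨fun e => by
        obtain ⟨z, hz, e'⟩ := (mul_self_eq_one_iff h (h.setup.le x.2)).1 (congrArg Subtype.val e)
        exact Q.subtype_injective e' ▸ hz,
      fun hx => Subtype.ext (Zc_sq h ⟨x, hx, rfl⟩)⟩)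
    (sq_mem_center h) (kwHom h).range
    (isCyclic_of_surjective _ (MonoidHom.rangeRestrict_surjective (kwHom h)))
    hcardC (card_W_dvd h) hidx hm1
    (by
      rintro _ ⟨d, rfl⟩ hne x hx
      by_contra hxc
      exact hne (by rw [eq_one_of_coset h hxc hx, map_one]))
    (zinv fr) χ
    (fun z z' e => Subtype.ext (Subtype.ext (by
      rw [← (zinv_spec h fr z).2, e, (zinv_spec h fr z').2])))
    (fun z z' => zinv_eq h fr (add_fixed (zinv_spec h fr z).1 (zinv_spec h fr z').1) (by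
      rw [fr.coords.ζ_add _ _ (zinv_spec h fr z).1 (zinv_spec h fr z').1, (zinv_spec h fr z).2,
        (zinv_spec h fr z').2]; rfl))
    (fun z => (zinv_spec h fr z).1) hχ
    (fun x hx0 hx => by
      obtain ⟨e, he⟩ := FiniteField.isSquare_of_char_two (ringChar.eq F 2) x
      have he0 : e ≠ 0 := by rintro rfl; simp at he; exact hx0 he
      have hef : e ^ (2 ^ n) = e := by
        refine CharTwo.sq_inj.1 ?_
        rw [← pow_mul, mul_comm, pow_mul, sq, ← he, hx]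
      have hk := fr.coords.κ_mem e he0 hef
      refine ⟨⟨kwHom h ⟨fr.κ e, Subgroup.mem_sup_left hk⟩, ⟨_, rfl⟩⟩, ?_⟩
      obtain ⟨z₁, hz₁, hz₁0⟩ := exists_involution h
      obtain ⟨z₁, hz₁c, rfl⟩ := hz₁
      have hc2 : kwHom h ⟨fr.κ e, Subgroup.mem_sup_left hk⟩ z₁ ∈ Subgroup.center Q := by
        obtain ⟨z, hz, e'⟩ := conj_mem_Zc h (Kc_le h hk).1 (x := (z₁ : G)) ⟨z₁, hz₁c, rfl⟩
        exact (show z = kwHom h ⟨fr.κ e, Subgroup.mem_sup_left hk⟩ z₁ from
          Q.subtype_injective e') ▸ hz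
      have h1 := hχ ⟨kwHom h ⟨fr.κ e, Subgroup.mem_sup_left hk⟩, ⟨_, rfl⟩⟩ ⟨z₁, hz₁c⟩ ⟨_, hc2⟩ rfl
      have hz := zinv_spec h fr ⟨z₁, hz₁c⟩
      rw [zinv_eq h fr (x := e ^ 2 * zinv fr ⟨z₁, hz₁c⟩) (mul_fixed (sq_fixed_of hef) hz.1) (by
        show _ = (kwHom h _ z₁ : G)
        rw [kwHom_apply, ← fr.coords.conj e _ he0 hef hz.1, hz.2])] at h1
      have hne : zinv fr ⟨z₁, hz₁c⟩ ≠ 0 := fun e' => hz₁0 (by
        show (z₁ : G) = 1
        rw [← hz.2, e', (rel_group h fr.coords).Z_zero])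
      rw [he, ← sq]
      exact (mul_right_cancel₀ hne h1).symm) with
    ⟨e, he, hez, hec⟩ | ⟨hn3, -, α, hadd, hker, hsurj, hact, a₀, r, hform⟩
  · have hinj := he.injective
    refine ⟨fun u => (e u).1, fun u => (e u).2, normForm n,
      scale_of h fr hidx (fun u v => by rw [he.map_mul]; rfl) (fun u => ⟨fun hu => ?_, fun hu => ?_⟩)
        (fun x => ?_) (fun u hu => ?_) (fun c => ?_), Or.inl ⟨rfl, he, fun z hz hzQ => ?_⟩⟩
    · have hr : (e u).2 ^ (2 ^ n) = (e u).2 := by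
        have := he.mem u
        rw [InHerm, hu, zero_pow (Nat.succ_ne_zero _), CharTwo.add_eq_zero] at this
        exact this.symm
      obtain ⟨x, hx, hxe⟩ : ∃ x : Subgroup.center Q, fr.ζ (e u).2 = ((x : Q) : G) ∧ True := by
        obtain ⟨z, hz, e'⟩ := fr.coords.ζ_mem _ hr
        exact ⟨⟨z, hz⟩, e'.symm, trivial⟩
      have e1 : e (x : Q) = e u := by
        rw [hez, zinv_eq h fr hr hx]; exact Prod.ext hu.symm rfl
      exact hinj e1 ▸ x.2
    · have := hez ⟨u, hu⟩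
      exact congrArg Prod.fst this
    · obtain ⟨y, hy⟩ : ∃ y : F, y + y ^ (2 ^ n) = x ^ (2 ^ n + 1) := by
        by_cases hx : x = 0
        · exact ⟨0, by simp [hx, zero_pow (Nat.two_pow_pos n).ne']⟩
        have hc := Fld.card_fib fr.card_F h.two_le (pow_ne_zero _ hx : x ^ (2 ^ n + 1) ≠ 0)
          (Fld.normForm_real fr.card_F x)
        obtain ⟨y, hy⟩ := Finset.card_pos.1 (by rw [hc]; positivity)
        exact ⟨y, (Finset.mem_filter.1 hy).2⟩
      obtain ⟨u, hu⟩ := he.surj (x, y) hy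
      exact ⟨u, congrArg Prod.fst hu⟩
    · have h1 := hez ⟨u * u, hu⟩
      rw [he.map_mul] at h1
      have h2 := congrArg Prod.snd h1
      simp only [hMul] at h2
      rw [CharTwo.add_self_eq_zero, zero_add] at h2
      rw [← h2]
      exact (pow_succ _ _).symm
    · obtain ⟨δ, hδ0, -, hδ⟩ := hec c
      exact ⟨δ, hδ0, fun u => ⟨congrArg Prod.fst (hδ u), congrArg Prod.snd (hδ u)⟩⟩
    · obtain ⟨z', hz', e'⟩ := fr.coords.ζ_mem z hz
      obtain rfl : z' = ⟨fr.ζ z, hzQ⟩ := Subtype.ext e'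
      have := hez ⟨⟨fr.ζ z, hzQ⟩, hz'⟩
      rw [zinv_eq h fr (z := ⟨⟨fr.ζ z, hzQ⟩, hz'⟩) hz rfl] at this
      exact congrArg Prod.snd this
  · refine ⟨α, fun _ => 0, _, scale_of h fr hidx hadd hker hsurj hform (fun c => ?_),
      Or.inr ⟨hn3, a₀, r, rfl⟩⟩
    obtain ⟨δ, hδ0, hδ⟩ := hact c
    exact ⟨δ, hδ0, fun u => ⟨hδ u, by rw [mul_zero]⟩⟩

end Cfsg.Agent.Involutions.RankOne.U3
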