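import Cfsg.Agent.Lib.Involutions.RankOne.U3.Bridge.Points
import Cfsg.Agent.Lib.Involutions.RankOne.U3.Bridge.Coords

/-!
# The branch `|Q| = q³`, U8 and U9: the structure equation
-/

set_option autoImplicit false
set_option linter.unusedSectionVars false
set_option linter.style.haveILetI false

namespace Cfsg.Agent.Involutions.RankOne.U3

open MulAction Involutions.Basic

variable {G Ω : Type*} [Group G] [Finite G] [MulAction G Ω] [FaithfulSMul G Ω] {a : Ω} {t : G}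
  {Q : Subgroup G} {n : ℕ} {F : Type*} [Field F] [Fintype F] [CharP F 2]

local notation "H" => MulAction.stabilizer G a
local notation "D" => (MulAction.stabilizer G a ⊓ MulAction.stabilizer G (t • a))

/-- The slope `B = y / x` of the point `u • b`. -/
def slopeOf (a : Ω) (t : G) (X : Ω → F × F) (u : Q) : F :=
  (X ((u : G) • (t • a))).2 / (X ((u : G) • (t • a))).1

/-- The element `u` has the coordinates `(γ, C)`. -/
def Has (a : Ω) (t : G) (α : Q → F) (X : Ω → F × F) (u : Q) (γ C : F) : Prop :=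
  α u = γ ∧ slopeOf a t X u = C

/-- The structure equation as an equation in `Q`. -/
def Pointwise (n : ℕ) (a : Ω) (t : G) (α : Q → F) (X : Ω → F × F) (A : F → F) (P : F ≃ F) (γ B : F)
    (σ : RingAut F) (μ : F) : Prop :=
  ∀ z : F, z ^ (2 ^ n) = z → z ≠ 0 → ∃ v₁ v v₃ : Q,
    Has a t α X v₁ (phi P γ (B + z⁻¹)) (B + z⁻¹)⁻¹ ∧ Has a t α X v (phi P γ B) B⁻¹ ∧
    Has a t α X v₃ (phi P (aH A P γ B) (bH A P γ B + μ * σ z)) (bH A P γ B + μ * σ z)⁻¹ ∧
    v₁ = v * v₃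

variable (h : Setting G Ω a t Q n) (fr : Frame a t Q n F) {ρ : F} {α β : Q → F} {A : F → F}
  {X : Ω → F × F} (hs : Scale fr α β A) (hX : Coord fr X)
include h hs hX

theorem off_of_alpha {u : Q} (hu : α u ≠ 0) : (u : G) • (t • a) ∉ blockB a t Q := fun hc =>
  hu ((hs.ker u).2 ((off_iff h u.2).1 hc))

omit hs in
theorem fst_ne {p : Ω} (hp : p ∉ blockB a t Q) : (X p).1 ≠ 0 := fun e => by
  have := hX.trace p hp
  rw [e, zero_mul, zero_pow (Nat.two_pow_pos n).ne', zero_mul, add_zero] at this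
  exact zero_ne_one this

omit hX in
theorem alpha_inv (u : Q) : α u⁻¹ = α u := by
  have := hs.add u u⁻¹
  rw [mul_inv_cancel, (hs.ker 1).2 (by simp [one_mem])] at this
  exact (CharTwo.add_eq_zero.1 this.symm).symm

omit hX in
theorem alpha_zeta {z : F} (hz : z ^ (2 ^ n) = z) :
    α ⟨fr.ζ z, Zc_le (fr.coords.ζ_mem z hz)⟩ = 0 := (hs.ker _).2 (fr.coords.ζ_mem z hz)

/-- The effect of a central element. -/
theorem shift {z : F} (hz : z ^ (2 ^ n) = z) {u : Q} (hu : α u ≠ 0) {v : Q}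
    (hv : (v : G) = fr.ζ z * u) :
    α v = α u ∧ (X ((v : G) • (t • a))).1 = (X ((u : G) • (t • a))).1 ∧
      slopeOf a t X v = slopeOf a t X u + z := by
  have hp := off_of_alpha h fr hs hX hu
  have e1 : v = ⟨fr.ζ z, Zc_le (fr.coords.ζ_mem z hz)⟩ * u := Subtype.ext hv
  refine ⟨by rw [e1, hs.add, alpha_zeta h fr hs hz, zero_add], ?_, ?_⟩
  · rw [hv, mul_smul, hX.zeta z hz _ hp]
  · rw [slopeOf, slopeOf, hv, mul_smul, hX.zeta z hz _ hp, add_div,
      mul_div_cancel_right₀ _ (fst_ne h fr hX hp), add_comm]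

/-- The inverse. -/
theorem slope_inv {u : Q} (hu : α u ≠ 0) :
    slopeOf a t X u⁻¹ = slopeOf a t X u + A (α u) := by
  refine (shift h fr hs hX (hs.A_real _) hu ?_).2.2
  rw [← hs.sq u]
  have h1 : ((u : G) * u) * ((u : G) * u) = 1 := Zc_sq h (sq_mem_Zc h u.2)
  rw [Subgroup.coe_inv, inv_eq_iff_mul_eq_one]
  calc (u : G) * ((u : G) * u * u) = ((u : G) * u) * ((u : G) * u) := by group
    _ = 1 := h1

/-- The map `α ↦ x`. -/
theorem exists_P : ∃ P : F ≃ F, P 0 = 0 ∧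
    (∀ u : Q, α u ≠ 0 → P (α u) = (X ((u : G) • (t • a))).1 ∧ IsPoint n P (α u) (slopeOf a t X u)) ∧
    ∀ γ C, IsPoint n P γ C → ∃ u : Q, Has a t α X u γ C := by
  classical
  choose r hr using hs.surj
  have htr : ∀ u : Q, α u ≠ 0 → slopeOf a t X u + slopeOf a t X u ^ (2 ^ n) =
      ((X ((u : G) • (t • a))).1 ^ (2 ^ n + 1))⁻¹ := fun u hu => by
    have hp := off_of_alpha h fr hs hX hu
    have := hX.trace _ hp
    have h0 := fst_ne h fr hX hp
    rw [slopeOf, div_pow, pow_succ]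
    field_simp
    linear_combination this
  have hrel : ∀ u v : Q, α u = α v → ∃ z, z ^ (2 ^ n) = z ∧ (v : G) = fr.ζ z * u := fun u v e => by
    have e0 : α (v * u⁻¹) = 0 := by
      rw [hs.add, alpha_inv h fr hs u, e, CharTwo.add_self_eq_zero]
    obtain ⟨z, hz, e'⟩ := fr.coords.ζ_surj _ ((hs.ker _).1 e0)
    refine ⟨z, hz, ?_⟩
    rw [e', Subgroup.coe_mul, Subgroup.coe_inv, inv_mul_cancel_right]
  let Pf : F → F := fun γ => if γ = 0 then 0 else (X ((r γ : G) • (t • a))).1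
  have hPf : ∀ u : Q, α u ≠ 0 → Pf (α u) = (X ((u : G) • (t • a))).1 := fun u hu => by
    show (if _ then _ else _) = _
    rw [if_neg hu]
    obtain ⟨z, hz, e⟩ := hrel u (r (α u)) (hr _).symm
    exact (shift h fr hs hX hz hu e).2.1
  have hPf0 : ∀ γ, γ ≠ 0 → Pf γ ≠ 0 := fun γ hγ => by
    have h1 : α (r γ) ≠ 0 := by rw [hr]; exact hγ
    have := hPf _ h1
    rw [hr] at this
    rw [this]; exact fst_ne h fr hX (off_of_alpha h fr hs hX h1)
  have hinj : Function.Injective Pf := by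
    intro γ γ' e
    by_cases hγ : γ = 0
    · subst hγ
      by_contra hne
      exact hPf0 γ' (Ne.symm hne) (by rw [← e]; exact if_pos rfl)
    by_cases hγ' : γ' = 0
    · subst hγ'
      exact absurd (e.trans (if_pos rfl)) (hPf0 γ hγ)
    have hu : α (r γ) ≠ 0 := by rw [hr]; exact hγ
    have hu' : α (r γ') ≠ 0 := by rw [hr]; exact hγ'
    have e1 := hPf _ hu
    have e2 := hPf _ hu'
    rw [hr] at e1 e2
    set z := slopeOf a t X (r γ) + slopeOf a t X (r γ') with hzdef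
    have h3 := htr _ hu
    have h4 := htr _ hu'
    rw [← e1, e] at h3
    rw [← e2] at h4
    have hz : z ^ (2 ^ n) = z := by
      rw [hzdef, Fld.conj_add]
      linear_combination h3 - h4 + (slopeOf a t X (r γ') ^ (2 ^ n) - slopeOf a t X (r γ)) *
        (CharTwo.two_eq_zero : (2 : F) = 0)
    set v : Q := ⟨fr.ζ z, Zc_le (fr.coords.ζ_mem z hz)⟩ * r γ with hv
    obtain ⟨ha, hx, hsl⟩ := shift h fr hs hX hz hu (v := v) rfl
    have hpv := off_of_alpha h fr hs hX (ha.symm ▸ hu : α v ≠ 0)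
    have hpu' := off_of_alpha h fr hs hX hu'
    have e5 : (v : G) • (t • a) = (r γ' : G) • (t • a) := by
      refine hX.inj _ _ hpv hpu' (Prod.ext (by rw [hx, ← e1, ← e2, e]) ?_)
      have e6 : slopeOf a t X v = slopeOf a t X (r γ') := by
        rw [hsl, hzdef, ← add_assoc, CharTwo.add_self_eq_zero, zero_add]
      have f1 := div_mul_cancel₀ (X ((v : G) • (t • a))).2 (fst_ne h fr hX hpv)
      have f2 := div_mul_cancel₀ (X ((r γ' : G) • (t • a))).2 (fst_ne h fr hX hpu')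
      have e7 : (X ((v : G) • (t • a))).1 = (X ((r γ' : G) • (t • a))).1 := by
        rw [hx, ← e1, ← e2, e]
      calc _ = slopeOf a t X v * _ := f1.symm
        _ = slopeOf a t X (r γ') * (X ((r γ' : G) • (t • a))).1 := by rw [e6, e7]
        _ = _ := f2
    have e6 : v = r γ' := Subtype.ext (q_unique h.setup v.2 (r γ').2 (b_ne h.setup) e5)
    rw [← hr γ, ← ha, e6, hr]
  refine ⟨Equiv.ofBijective Pf (Finite.injective_iff_bijective.1 hinj), if_pos rfl,
    fun u hu => ⟨hPf u hu, hu, by rw [Equiv.ofBijective_apply, hPf u hu]; exact htr u hu⟩, fun γ C hC => ?_⟩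
  obtain ⟨hγ, hC⟩ := hC
  rw [Equiv.ofBijective_apply] at hC
  have hu : α (r γ) ≠ 0 := by rw [hr]; exact hγ
  have e1 := hPf _ hu
  rw [hr] at e1
  have h3 := htr _ hu
  rw [← e1] at h3
  set z := slopeOf a t X (r γ) + C with hzdef
  have hz : z ^ (2 ^ n) = z := by
    rw [hzdef, Fld.conj_add]
    linear_combination h3 - hC + (C ^ (2 ^ n) - slopeOf a t X (r γ)) * (CharTwo.two_eq_zero : (2 : F) = 0)
  obtain ⟨ha, -, hsl⟩ := shift h fr hs hX hz hu
    (v := ⟨fr.ζ z, Zc_le (fr.coords.ζ_mem z hz)⟩ * r γ) rfl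
  exact ⟨_, ha.trans (hr γ), by rw [hsl, hzdef, ← add_assoc, CharTwo.add_self_eq_zero, zero_add]⟩

variable {P : F ≃ F} (hP0 : P 0 = 0)
  (hP : ∀ u : Q, α u ≠ 0 → P (α u) = (X ((u : G) • (t • a))).1 ∧ IsPoint n P (α u) (slopeOf a t X u))
include hP0 hP

/-- The action of `t`. -/
theorem t_action (hW : W a t ≠ ⊥) {u : Q} (hu : α u ≠ 0) {v : Q}
    (e : t • ((u : G) • (t • a)) = (v : G) • (t • a)) :
    α v ≠ 0 ∧ Has a t α X v (phi P (α u) (slopeOf a t X u)) (slopeOf a t X u)⁻¹ := by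
  have hp := off_of_alpha h fr hs hX hu
  have hpv : (v : G) • (t • a) ∉ blockB a t Q := by
    rw [← e]; exact fun hc => hp ((block_iff h hW t_mem_L0).1 hc)
  have hv : α v ≠ 0 := fun e' => hpv ((off_iff h v.2).2 ((hs.ker v).1 e'))
  have h1 := hX.swap _ hp
  rw [e] at h1
  refine ⟨hv, ?_, ?_⟩
  · refine P.injective ?_
    rw [phi, P.apply_symm_apply, (hP v hv).1, (hP u hu).1, h1, slopeOf,
      div_mul_cancel₀ _ (fst_ne h fr hX hp)]
  · rw [slopeOf, slopeOf, h1, inv_div]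

/-- The effect of an element of `K W`. -/
theorem kw_action {e c : F} (he : e ≠ 0) (he' : e ^ (2 ^ n) = e) {w : G} (hw : w ∈ W a t)
    (hc : ∀ p : Ω, p ∉ blockB a t Q → X (w • p) = (c * (X p).1, c * (X p).2)) {p : Ω}
    (hp : p ∉ blockB a t Q) :
    X ((fr.κ e * w) • p) = (c * e⁻¹ * (X p).1, c * e * (X p).2) := by
  rw [mul_smul, hX.kappa e he he' _ (fun hc' => hp ((D_block_iff h (W_le hw)).1 hc')), hc p hp]
  exact Prod.ext (by simp only; ring) (by simp only; ring)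

/-- U8 and U9. -/
theorem alg (hl : Local fr ρ) (hW : W a t ≠ ⊥)
    (hpt : ∀ γ C, IsPoint n P γ C → ∃ u : Q, Has a t α X u γ C) :
    Alg n A P (Pointwise n a t α X A P) := by
  have hn := h.two_le
  have hc := fr.card_F
  refine ⟨hP0, hs.A_zero, hs.A_ne, hs.A_real, fun δ γ hδ => ?_, fun δ γ hδ => ?_, fun γ B hB => ?_⟩
  · -- equivariance
    by_cases hγ : γ = 0
    · exact ⟨δ, hδ, by rw [hγ, mul_zero, hP0, mul_zero]⟩
    obtain ⟨u, hu⟩ := hs.surj γ
    obtain ⟨e, w, he, he', hw, hk, hact, -⟩ := hs.cover δ hδ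
    obtain ⟨c, hc1, hcX⟩ := hX.scalar w hw
    have hdD : fr.κ e * w ∈ D := mul_mem (Kc_le h (fr.coords.κ_mem e he he')) (W_le hw)
    set d := fr.κ e * w with hd
    set v : Q := ⟨d * u * d⁻¹, h.setup.conj_mem _ (mem_D.1 hdD).1 u u.2⟩ with hv
    obtain ⟨hαv, -⟩ := hact u v rfl
    have hu0 : α u ≠ 0 := hu ▸ hγ
    have hp := off_of_alpha h fr hs hX hu0
    have hvb : (v : G) • (t • a) = d • ((u : G) • (t • a)) := by
      show (d * u * d⁻¹) • (t • a) = _
      rw [mul_smul, mul_smul, show d⁻¹ • (t • a) = t • a from (inv_mem hdD).2]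
    have hv0 : α v ≠ 0 := by rw [hαv, hu]; exact mul_ne_zero hδ.1 hγ
    refine ⟨c * e⁻¹, (Fld.inDelta_iff hn hc).2 ⟨mul_ne_zero ?_ (inv_ne_zero he), ?_⟩, ?_⟩
    · rintro rfl; simp at hc1
    · have hiter : ∀ i : ℕ, (X (d ^ i • ((u : G) • (t • a)))).1 =
          (c * e⁻¹) ^ i * (X ((u : G) • (t • a))).1 := fun i => by
        induction i with
        | zero => simp
        | succ i ih =>
          rw [pow_succ', mul_smul, kw_action h fr hs hX hP0 hP he he' hw hcX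
            (fun e' => hp ((D_block_iff h (pow_mem hdD i)).1 e'))]
          simp only [ih, pow_succ']
          ring
      have h1 := hiter ((2 ^ n - 1) * Fld.cm n)
      rw [hk, one_smul] at h1
      exact mul_right_cancel₀ (fst_ne h fr hX hp) (h1.symm.trans (one_mul _).symm)
    · rw [← hu, ← hαv, (hP v hv0).1, (hP u hu0).1, hvb,
        kw_action h fr hs hX hP0 hP he he' hw hcX hp]
  · -- invariance
    by_cases hγ : γ = 0
    · rw [hγ, mul_zero]
    obtain ⟨u, hu⟩ := hs.surj γ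
    obtain ⟨e, w, he, he', hw, hk, hact, hA⟩ := hs.cover δ hδ
    obtain ⟨c, hc1, hcX⟩ := hX.scalar w hw
    have hdD : fr.κ e * w ∈ D := mul_mem (Kc_le h (fr.coords.κ_mem e he he')) (W_le hw)
    set d := fr.κ e * w with hd
    set v : Q := ⟨d * u * d⁻¹, h.setup.conj_mem _ (mem_D.1 hdD).1 u u.2⟩ with hv
    obtain ⟨hαv, -⟩ := hact u v rfl
    have hu0 : α u ≠ 0 := hu ▸ hγ
    have hp := off_of_alpha h fr hs hX hu0
    have hvb : (v : G) • (t • a) = d • ((u : G) • (t • a)) := by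
      show (d * u * d⁻¹) • (t • a) = _
      rw [mul_smul, mul_smul, show d⁻¹ • (t • a) = t • a from (inv_mem hdD).2]
    have hv0 : α v ≠ 0 := by rw [hαv, hu]; exact mul_ne_zero hδ.1 hγ
    rw [hA, ← hu, ← hαv, (hP v hv0).1, (hP u hu0).1, hvb,
      kw_action h fr hs hX hP0 hP he he' hw hcX hp]
    simp only [mul_pow, inv_pow, hc1]
    rw [pow_succ e (2 ^ n), he']
    field_simp
  -- the structure equation
  obtain ⟨u, hu, huB⟩ := hpt γ B hB
  have hu0 : α u ≠ 0 := hu ▸ hB.1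
  have hf : ∀ x : Q, α x ≠ 0 → ∃ y : Q, t • ((x : G) • (t • a)) = (y : G) • (t • a) := fun x hx => by
    have hne : t • ((x : G) • (t • a)) ≠ a := fun e => hx ((hs.ker x).2 ((off_iff h x.2).1
      (Or.inr ⟨1, one_mem _, by rw [one_smul]; exact
        (smul_left_cancel t (e.trans (t_smul_b h.setup).symm)).symm⟩)))
    obtain ⟨y, hy, e⟩ := exists_q h.setup hne
    exact ⟨⟨y, hy⟩, e.symm⟩
  obtain ⟨v, hv⟩ := hf u hu0
  obtain ⟨hv0, hvα, hvS⟩ := t_action h fr hs hX hP0 hP hW hu0 hv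
  have hui : α u⁻¹ ≠ 0 := by rw [alpha_inv h fr hs u]; exact hu0
  obtain ⟨g', hg'⟩ := hf u⁻¹ hui
  obtain ⟨hg0, hgα, hgS⟩ := t_action h fr hs hX hP0 hP hW hui hg'
  rw [alpha_inv h fr hs u, slope_inv h fr hs hX hu0, hu, huB] at hgα
  rw [slope_inv h fr hs hX hu0, hu, huB] at hgS
  rw [hu, huB] at hvα
  rw [huB] at hvS
  set d : G := ((v : G) * t)⁻¹ * (t * u * t) * g' with hd
  set g : Q := g'⁻¹ with hg
  have heq : t * (u : G) * t = (v : G) * t * (d * g) := by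
    rw [hd, hg, Subgroup.coe_inv]; group
  have hta : ∀ x : Q, (x : G) • a = a := fun x => h.setup.le x.2
  have ht2 := t_smul_b h.setup
  have htua : (t * (u : G) * t) • a = (v : G) • (t • a) := by rw [mul_smul, mul_smul, hv]
  have htub : (t * (u : G) * t) • (t • a) = t • a := by rw [mul_smul, mul_smul, ht2, hta]
  have hdD : d ∈ D := by
    constructor
    · show d • a = a
      rw [hd, mul_smul, hta, mul_smul, htua, mul_inv_rev, mul_smul, inv_smul_smul, t_inv h.setup, ht2]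
    · show d • (t • a) = t • a
      rw [hd, mul_smul, ← hg', mul_smul, mul_smul, mul_smul, ← mul_smul t t, h.setup.mul_self,
        one_smul, Subgroup.coe_inv, smul_inv_smul, mul_inv_rev, mul_smul, t_inv h.setup, ht2,
        show (v : G)⁻¹ • a = a from inv_mem (h.setup.le v.2)]
  obtain ⟨k, k', hkD, hkt, hk', hdk⟩ := exists_V_mul_K h hdD
  obtain ⟨σ, hσ, hσp⟩ := sem_V h fr hl hkD hkt
  obtain ⟨e, he, he', rfl⟩ := fr.coords.κ_surj k' hk'
  have hsem : Sem fr d (σ * 1) (1 * σ (e ^ 2)) := hdk ▸ sem_mul h fr hσ (sem_Kc h fr he he')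
  rw [mul_one, one_mul] at hsem
  set μ := σ (e ^ 2) with hμ
  have hpow := sigma_pow h fr hl u.2 v.2 g.2 hdD heq hsem
  have hg0' : α g ≠ 0 := by rw [hg, alpha_inv h fr hs g']; exact hg0
  have hgα' : α g = aG A P γ B := by rw [hg, alpha_inv h fr hs g', hgα]; rfl
  have hgS' : slopeOf a t X g = bG A P γ B := by
    rw [hg, slope_inv h fr hs hX hg0, hgS, hgα]; rfl
  set g1 : Q := ⟨d * g * d⁻¹, h.setup.conj_mem _ (mem_D.1 hdD).1 g g.2⟩ with hg1
  have hg1b : (g1 : G) • (t • a) = d • ((g : G) • (t • a)) := by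
    show (d * g * d⁻¹) • (t • a) = _
    rw [mul_smul, mul_smul, show d⁻¹ • (t • a) = t • a from (inv_mem hdD).2]
  have hvi : α v⁻¹ ≠ 0 := by rw [alpha_inv h fr hs v]; exact hv0
  have hg1t : t • (((v⁻¹ : Q) : G) • (t • a)) = (g1 : G) • (t • a) := by
    rw [hg1b, ← mul_smul d, show d * (g : G) = ((v : G) * t)⁻¹ * (t * u * t) by rw [heq]; group,
      mul_smul, htub, mul_inv_rev, mul_smul, t_inv h.setup, Subgroup.coe_inv]
  obtain ⟨hg10, hg1α, hg1S⟩ := t_action h fr hs hX hP0 hP hW hvi hg1t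
  rw [alpha_inv h fr hs v, slope_inv h fr hs hX hv0, hvS, hvα] at hg1α
  rw [slope_inv h fr hs hX hv0, hvS, hvα] at hg1S
  change α g1 = aH A P γ B at hg1α
  change slopeOf a t X g1 = bH A P γ B at hg1S
  refine ⟨σ, μ, ⟨hsem.1, hpow, hsem.2.1, hsem.2.2.1⟩, ⟨?_, ?_, fun z hz hz0 => ?_⟩, fun z hz hz0 => ?_⟩
  · -- slopes
    rw [← hg1S, ← hgS', slopeOf, hg1b, hdk, mul_smul]
    have hp := off_of_alpha h fr hs hX hg0'
    have hkp : fr.κ e • ((g : G) • (t • a)) ∉ blockB a t Q := fun e' =>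
      hp ((D_block_iff h (Kc_le h hk')).1 e')
    rw [hX.slope k hkD hkt σ hσ hσp _ hkp, hX.kappa e he he' _ hp, slopeOf, hμ, ← map_mul]
    congr 1
    simp only
    field_simp
  · -- squares
    rw [← hg1α, ← hgα']
    refine fr.coords.ζ_inj _ _ (hs.A_real _) (mul_fixed hsem.2.2.1 (fix_pow (hs.A_real _) σ)) ?_
    rw [← hs.sq g1, ← hsem.2.2.2 _ (hs.A_real _), ← hs.sq g]
    show d * g * d⁻¹ * (d * g * d⁻¹) = _
    group
  all_goals
    have hzi : z⁻¹ ^ (2 ^ n) = z⁻¹ := inv_fixed hz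
    set u1 : Q := ⟨fr.ζ z⁻¹, Zc_le (fr.coords.ζ_mem _ hzi)⟩ * u with hu1
    obtain ⟨hu1α, -, hu1S⟩ := shift h fr hs hX hzi hu0 (v := u1) rfl
    obtain ⟨v1, hv1⟩ := hf u1 (hu1α ▸ hu0)
    obtain ⟨-, hv1α, hv1S⟩ := t_action h fr hs hX hP0 hP hW (hu1α ▸ hu0) hv1
    rw [hu1α, hu1S, hu, huB] at hv1α
    rw [hu1S, huB] at hv1S
    have hw : (μ * σ z) ^ (2 ^ n) = μ * σ z := mul_fixed hsem.2.2.1 (fix_pow hz σ)
    set u3 : Q := ⟨fr.ζ (μ * σ z), Zc_le (fr.coords.ζ_mem _ hw)⟩ * g1 with hu3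
    obtain ⟨hu3α, -, hu3S⟩ := shift h fr hs hX hw hg10 (v := u3) rfl
    obtain ⟨v3, hv3⟩ := hf u3 (hu3α ▸ hg10)
    obtain ⟨-, hv3α, hv3S⟩ := t_action h fr hs hX hP0 hP hW (hu3α ▸ hg10) hv3
    rw [hu3α, hu3S, hg1α, hg1S] at hv3α
    rw [hu3S, hg1S] at hv3S
    have hmain : v1 = v * v3 := by
      have hta' : ∀ x ∈ Q, x • a = a := fun x hx => h.setup.le hx
      have hzb : t • (fr.ζ z • (t • a)) = fr.ζ z⁻¹ • (t • a) := by
        have := congrArg (· • a) (fr.coords.swap z hz0 hz)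
        simp only [mul_smul] at this
        rw [this, hta' _ (Zc_le (fr.coords.ζ_mem _ hzi)),
          (mem_D.1 (Kc_le h (fr.coords.κ_mem _ (inv_ne_zero hz0) hzi))).2]
      have hL : (t * u * t) • (fr.ζ z • (t • a)) = (v1 : G) • (t • a) := by
        rw [mul_smul, mul_smul, hzb, ← hv1, ← mul_smul (u : G), hu1, Subgroup.coe_mul,
          ← Zc_comm (fr.coords.ζ_mem _ hzi) u.2]
      have hR : ((v : G) * t * (d * g)) • (fr.ζ z • (t • a)) = ((v * v3 : Q) : G) • (t • a) := by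
        rw [Subgroup.coe_mul, mul_smul (v : G) (v3 : G), ← hv3, mul_smul, mul_smul]
        congr 2
        rw [hu3, Subgroup.coe_mul, Zc_comm (fr.coords.ζ_mem _ hw) g1.2, ← hsem.2.2.2 z hz,
          show ((g1 : G)) = d * g * d⁻¹ from rfl]
        simp only [mul_smul, show d⁻¹ • (t • a) = t • a from (inv_mem hdD).2, inv_smul_smul]
      exact Subtype.ext (q_unique h.setup v1.2 (v * v3).2 (b_ne h.setup)
        (hL.symm.trans (by rw [heq]; exact hR)))
  · rw [← hv1α, ← hvα, ← hv3α, hmain, hs.add]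
  · exact ⟨v1, v, v3, ⟨hv1α, hv1S⟩, ⟨hvα, hvS⟩, ⟨hv3α, hv3S⟩, hmain⟩

end Cfsg.Agent.Involutions.RankOne.U3
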