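import Cfsg.Agent.Lib.Involutions.RankOne.U3.Interface2
import Cfsg.Agent.Lib.Involutions.RankOne.U3.FormulaAut
import Cfsg.Agent.S1126
import Cfsg.Agent.S1134

/-!
# The branch `|Q| = q³`, U9: the automorphism in the structure equation

`G_a` acts semilinearly on the coordinate of `Z(Q)`; the transfer of this action to `G` shows that the
automorphism of the element `h` of `t u t = u' t h g` has order dividing `q³ + 1`.
-/

set_option autoImplicit false
set_option linter.unusedSectionVars false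
set_option linter.style.haveILetI false

namespace Cfsg.Agent.Involutions.RankOne.U3

open MulAction Involutions.Basic

variable {F : Type*} [Field F] [Fintype F] [CharP F 2] {n : ℕ}

theorem fix_pow {z : F} (hz : z ^ (2 ^ n) = z) (σ : RingAut F) : σ z ^ (2 ^ n) = σ z := by
  rw [← map_pow, hz]

theorem aut_comm (hn : 2 ≤ n) (hc : Fintype.card F = (2 ^ n) ^ 2) (σ τ : RingAut F) :
    σ * τ = τ * σ := by
  obtain ⟨k, -, hk⟩ := Fld.exists_exponent hn hc σ
  obtain ⟨l, -, hl⟩ := Fld.exists_exponent hn hc τ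
  refine RingEquiv.ext fun x => ?_
  rw [RingAut.mul_apply, RingAut.mul_apply, hk, hl, hl, hk, ← pow_mul, ← pow_mul, mul_comm]

/-- An automorphism of odd order is determined by its restriction to the field with `q` elements. -/
theorem aut_eq_one (hn : 2 ≤ n) (hc : Fintype.card F = (2 ^ n) ^ 2) {τ : RingAut F}
    (ho : Odd (orderOf τ)) (hfix : ∀ z : F, z ^ (2 ^ n) = z → τ z = z) : τ = 1 := by
  classical
  obtain ⟨k, hk, hτ⟩ := Fld.exists_exponent hn hc τ
  have hcard : (Finset.univ.filter fun x : F => x ^ (2 ^ n - 1) = 1).card = 2 ^ n - 1 :=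
    (Fld.pow_kernel hn hc (m := 2 ^ n + 1) (by rw [mul_comm, Fld.sq_sub_one])).1
  have hle : 2 ^ n - 1 ≤ 2 ^ Nat.gcd n k := by
    rw [← hcard]
    refine le_trans (Finset.card_le_card fun x hx => ?_)
      (Fld.card_fixed_le (F := F) (Nat.gcd_pos_of_pos_left k (by omega)))
    simp only [Finset.mem_filter, Finset.mem_univ, true_and] at hx ⊢
    have h1 : x ^ (2 ^ n) = x := by
      rw [show 2 ^ n = (2 ^ n - 1) + 1 from (Nat.sub_add_cancel Nat.one_le_two_pow).symm, pow_succ, hx,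
        one_mul]
    exact Fld.pow_two_pow_gcd h1 (by rw [← hτ]; exact hfix x h1)
  have hg : Nat.gcd n k = n := by
    obtain ⟨c, hc'⟩ := Nat.gcd_dvd_left n k
    rcases (show c = 0 ∨ c = 1 ∨ 2 ≤ c by omega) with rfl | rfl | h2
    · simp at hc'; omega
    · omega
    · exfalso
      have h3 : 2 * Nat.gcd n k ≤ n := by
        calc 2 * Nat.gcd n k ≤ c * Nat.gcd n k := Nat.mul_le_mul_right _ h2
          _ = n := by rw [mul_comm]; exact hc'.symm
      have h4 : 2 ^ Nat.gcd n k * 2 ^ Nat.gcd n k ≤ 2 ^ n := by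
        rw [← pow_add]; exact Nat.pow_le_pow_right (by norm_num) (by omega)
      have h5 : 2 ≤ 2 ^ Nat.gcd n k :=
        Nat.le_self_pow (Nat.gcd_pos_of_pos_left k (by omega)).ne' 2
      have := Nat.mul_le_mul_right (2 ^ Nat.gcd n k) h5
      have : 4 ≤ 2 ^ n := le_trans (by norm_num) (Nat.pow_le_pow_right (show 2 > 0 by norm_num) hn)
      omega
  obtain ⟨c, hkc⟩ := Nat.gcd_dvd_right n k
  rw [hg] at hkc
  subst hkc
  have hc2 : c < 2 := by
    by_contra h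
    push Not at h
    have := Nat.mul_le_mul_left n h
    omega
  refine RingEquiv.ext fun x => ?_
  obtain ⟨j, hj⟩ := ho
  have hττ : ∀ y, τ (τ y) = y := fun y => by
    rw [hτ, hτ, ← pow_mul]
    rcases (show c = 0 ∨ c = 1 by omega) with rfl | rfl
    · simp
    · rw [mul_one, ← sq, ← hc, FiniteField.pow_card]
  have h2 : τ ^ 2 = 1 := RingEquiv.ext fun y => by rw [sq, RingAut.mul_apply, hττ]; rfl
  have h1 := pow_orderOf_eq_one τ
  rw [hj, pow_succ, pow_mul, h2, one_pow, one_mul] at h1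
  rw [h1]

variable {G Ω : Type*} [Group G] [Finite G] [MulAction G Ω] [FaithfulSMul G Ω] {a : Ω} {t : G}
  {Q : Subgroup G}

local notation "H" => MulAction.stabilizer G a
local notation "D" => (MulAction.stabilizer G a ⊓ MulAction.stabilizer G (t • a))

/-- `x` acts on the coordinate of `Z(Q)` as `z ↦ μ σ z`. -/
def Sem (fr : Frame a t Q n F) (x : G) (σ : RingAut F) (μ : F) : Prop :=
  Odd (orderOf σ) ∧ μ ≠ 0 ∧ μ ^ (2 ^ n) = μ ∧
    ∀ z, z ^ (2 ^ n) = z → x * fr.ζ z * x⁻¹ = fr.ζ (μ * σ z)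

variable (h : Setting G Ω a t Q n) (fr : Frame a t Q n F) {ρ : F}
include h

theorem sem_unique {x : G} {σ τ : RingAut F} {μ ν : F} (h1 : Sem fr x σ μ) (h2 : Sem fr x τ ν) :
    σ = τ ∧ μ = ν := by
  have hc := fr.card_F
  obtain ⟨hoσ, hμ0, hμ, h1⟩ := h1
  obtain ⟨hoτ, -, hν, h2⟩ := h2
  have e : ∀ z, z ^ (2 ^ n) = z → μ * σ z = ν * τ z := fun z hz =>
    fr.coords.ζ_inj _ _ (mul_fixed hμ (fix_pow hz σ)) (mul_fixed hν (fix_pow hz τ))
      ((h1 z hz).symm.trans (h2 z hz))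
  have e1 : μ = ν := by simpa using e 1 (one_pow _)
  subst e1
  refine ⟨(inv_mul_eq_one.1 (aut_eq_one h.two_le hc ?_ fun z hz => ?_)).symm, rfl⟩
  · have hcm : Commute τ⁻¹ σ := aut_comm h.two_le hc _ _
    exact Odd.of_dvd_nat (hoτ.mul hoσ) ((hcm.orderOf_mul_dvd_mul_orderOf).trans (by rw [orderOf_inv]))
  · show τ.symm (σ z) = z
    rw [mul_left_cancel₀ hμ0 (e z hz), RingEquiv.symm_apply_apply]

theorem sem_mul {x y : G} {σ τ : RingAut F} {μ ν : F} (h1 : Sem fr x σ μ) (h2 : Sem fr y τ ν) :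
    Sem fr (x * y) (σ * τ) (μ * σ ν) := by
  have hc := fr.card_F
  obtain ⟨hoσ, hμ0, hμ, h1⟩ := h1
  obtain ⟨hoτ, hν0, hν, h2⟩ := h2
  refine ⟨Odd.of_dvd_nat (hoσ.mul hoτ)
      ((Commute.orderOf_mul_dvd_mul_orderOf (aut_comm h.two_le hc σ τ))),
    mul_ne_zero hμ0 ((map_ne_zero σ).2 hν0), mul_fixed hμ (fix_pow hν σ), fun z hz => ?_⟩
  rw [show x * y * fr.ζ z * (x * y)⁻¹ = x * (y * fr.ζ z * y⁻¹) * x⁻¹ by group, h2 z hz,
    h1 _ (mul_fixed hν (fix_pow hz τ)), map_mul, RingAut.mul_apply, mul_assoc]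

omit h in
theorem sem_one_of_comm {x : G} (hx : ∀ z, z ^ (2 ^ n) = z → x * fr.ζ z = fr.ζ z * x) :
    Sem fr x 1 1 :=
  ⟨by rw [orderOf_one]; exact odd_one, one_ne_zero, one_pow _, fun z hz => by
    rw [hx z hz, mul_inv_cancel_right, RingAut.one_apply, one_mul]⟩

theorem sem_Kc {e : F} (he : e ≠ 0) (he' : e ^ (2 ^ n) = e) : Sem fr (fr.κ e) 1 (e ^ 2) :=
  ⟨by rw [orderOf_one]; exact odd_one, pow_ne_zero _ he, sq_fixed_of he', fun z hz => by
    rw [fr.coords.conj e z he he' hz, RingAut.one_apply]⟩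

theorem exists_sem (hl : Local fr ρ) {x : G} (hx : x ∈ H) : ∃ σ μ, Sem fr x σ μ := by
  obtain ⟨q, hq, d, hd, rfl⟩ := exists_decomp h.setup hx
  obtain ⟨σ, μ, ho, -, hμ0, hμ, hz, -⟩ := hl.semilinear d hd
  have h1 : Sem fr q 1 1 := sem_one_of_comm fr fun z hz' =>
    (Zc_comm (fr.coords.ζ_mem z hz') hq).symm
  exact ⟨_, _, sem_mul h fr h1 ⟨ho, hμ0, hμ, hz⟩⟩

/-- An element of `V` acts without a multiplier, by an automorphism of order dividing its own. -/
theorem sem_V (hl : Local fr ρ) {v : G} (hv : v ∈ D) (hvt : t * v = v * t) :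
    ∃ σ, Sem fr v σ 1 ∧ σ ^ orderOf v = 1 := by
  obtain ⟨σ, μ, ho, hp, hμ0, hμ, hz, h1⟩ := hl.semilinear v hv
  obtain rfl := h1 hvt
  exact ⟨σ, ⟨ho, hμ0, hμ, hz⟩, hp⟩

/-- The odd automorphisms. -/
def oddAut : Subgroup (RingAut F) where
  carrier := {σ | Odd (orderOf σ)}
  one_mem' := by show Odd (orderOf (1 : RingAut F)); rw [orderOf_one]; exact odd_one
  mul_mem' {σ τ} hσ hτ := by
    show Odd (orderOf (σ * τ))
    exact Odd.of_dvd_nat (hσ.mul hτ)
      ((Commute.orderOf_mul_dvd_mul_orderOf (aut_comm h.two_le fr.card_F σ τ)))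
  inv_mem' {σ} hσ := by show Odd (orderOf σ⁻¹); rwa [orderOf_inv]

/-- If `t u t = u' t h g` then the automorphism of `h` has order dividing `q³ + 1`. -/
theorem sigma_pow (hl : Local fr ρ) {u v g d : G} (hu : u ∈ Q) (hv : v ∈ Q) (hg : g ∈ Q) (hd : d ∈ D)
    (heq : t * u * t = v * t * (d * g)) {σ : RingAut F} {μ : F} (hσ : Sem fr d σ μ) :
    σ ^ ((2 ^ n) ^ 3 + 1) = 1 := by
  classical
  haveI : IsPretransitive G Ω := pretransitive h.setup
  haveI : Finite Ω := finite_points h.setup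
  letI : CommGroup (oddAut h fr) :=
    { (inferInstance : Group (oddAut h fr)) with
      mul_comm := fun x y => Subtype.ext (aut_comm h.two_le fr.card_F _ _) }
  choose s m hsm using fun x : H => exists_sem h fr hl x.2
  let φ : H →* oddAut h fr := MonoidHom.mk' (fun x => ⟨s x, (hsm x).1⟩) fun x y =>
    Subtype.ext (sem_unique h fr (hsm (x * y)) (sem_mul h fr (hsm x) (hsm y))).1
  have hφ : ∀ {x : G} (hx : x ∈ H) {τ : RingAut F} {ν : F}, Sem fr x τ ν →
      (φ ⟨x, hx⟩ : RingAut F) = τ := fun hx _ _ hs => (sem_unique h fr (hsm ⟨_, hx⟩) hs).1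
  set T := MonoidHom.transfer φ with hT
  have hodd : ∀ x : oddAut h fr, x * x = 1 → x = 1 := fun x hx => by
    refine Subtype.ext ?_
    obtain ⟨j, hj⟩ : Odd (orderOf (x : RingAut F)) := x.2
    have h2 : (x : RingAut F) ^ 2 = 1 := by rw [sq]; exact congrArg Subtype.val hx
    have h1 := pow_orderOf_eq_one (x : RingAut F)
    rw [hj, pow_succ, pow_mul, h2, one_pow, one_mul] at h1
    exact h1
  have ht : T t = 1 := hodd _ (by rw [← map_mul, h.setup.mul_self, map_one])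
  have hQ : ∀ x ∈ Q, T x = 1 := fun x hx => by
    obtain ⟨j, hj⟩ := h.two_group ⟨x, hx⟩
    have hj' : x ^ 2 ^ j = 1 := congrArg Subtype.val hj
    have e1 : orderOf ((T x : RingAut F)) ∣ 2 ^ j := by
      rw [orderOf_dvd_iff_pow_eq_one, ← SubmonoidClass.coe_pow, ← map_pow, hj', map_one]; rfl
    obtain ⟨i, -, hi⟩ := (Nat.dvd_prime_pow Nat.prime_two).1 e1
    have e2 : Odd (orderOf ((T x : RingAut F))) := (T x).2
    rw [hi] at e2
    have hi0 : i = 0 := by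
      by_contra hne
      exact (Nat.not_even_iff_odd.2 e2) (Nat.even_pow.2 ⟨even_two, hne⟩)
    subst hi0
    exact Subtype.ext (orderOf_eq_one_iff.1 hi)
  have hTd : T d = 1 := by
    have e := congrArg T heq
    rw [map_mul, map_mul, map_mul, map_mul, map_mul, ht, hQ u hu, hQ v hv, hQ g hg] at e
    simpa using e.symm
  obtain ⟨w, k, hw, hwt, hk, rfl⟩ := exists_V_mul_K h hd
  have hTk : T k = 1 := hodd _ (by
    nth_rewrite 1 [← inv_inv k]
    rw [← Kc_t h hk]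
    have e1 : (t * k * t)⁻¹ = t * k⁻¹ * t := by
      rw [mul_inv_rev, mul_inv_rev, t_inv h.setup, mul_assoc]
    rw [e1, map_mul, map_mul, map_inv, ht, one_mul, mul_one, inv_mul_cancel])
  rw [map_mul, hTk, mul_one] at hTd
  obtain ⟨σv, hsv, -⟩ := sem_V h fr hl hw hwt
  obtain ⟨e, he0, he, rfl⟩ := fr.coords.κ_surj k hk
  obtain ⟨rfl, -⟩ := sem_unique h fr hσ (sem_mul h fr hsv (sem_Kc h fr he0 he))
  rw [mul_one]
  -- the transfer of `w` is a power of its image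
  letI := (H).fintypeQuotientOfFiniteIndex
  letI : Fintype (Quotient (orbitRel (Subgroup.zpowers w) (G ⧸ H))) := Fintype.ofFinite _
  have hidx : (H).index = (2 ^ n) ^ 3 + 1 := by
    rw [index_stabilizer_of_transitive, ← h.card_Q]
    have e1 : Nat.card Ω = Nat.card ↥({a}ᶜ : Set Ω) + 1 := by
      rw [Nat.card_coe_set_eq, ← Set.ncard_singleton a, add_comm, Set.ncard_add_ncard_compl]
    rw [e1]
    congr 1
    refine (Nat.card_eq_of_bijective (fun x : Q => (⟨(x : G) • (t • a),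
      smul_a_ne h.setup (h.setup.le x.2) (b_ne h.setup)⟩ : ↥({a}ᶜ : Set Ω))) ⟨?_, ?_⟩).symm
    · intro x y e'
      exact Subtype.ext (q_unique h.setup x.2 y.2 (b_ne h.setup) (congrArg Subtype.val e'))
    · rintro ⟨c, hc⟩
      obtain ⟨x, hx, e'⟩ := exists_q h.setup hc
      exact ⟨⟨x, hx⟩, Subtype.ext e'⟩
  have hwD : ∀ j : ℕ, w ^ j ∈ D ⊓ Subgroup.centralizer {t} := fun j =>
    pow_mem (Subgroup.mem_inf.2 ⟨hw, Subgroup.mem_centralizer_singleton_iff.2 hwt.symm⟩) j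
  have key : ∀ (j : ℕ) (g₀ : G) (hg₀ : g₀⁻¹ * w ^ j * g₀ ∈ H),
      φ ⟨g₀⁻¹ * w ^ j * g₀, hg₀⟩ = φ ⟨w ^ j, (Subgroup.mem_inf.1 (Subgroup.mem_inf.1 (hwD j)).1).1⟩ := by
    intro j g₀ hg₀
    set y := w ^ j with hy
    obtain ⟨hyD, hyt⟩ := Subgroup.mem_inf.1 (hwD j)
    rw [← hy] at hyD hyt
    obtain ⟨⟨s, r⟩, ⟨hs, hr, hsr⟩, -⟩ := exists_pair h.setup
    have hys : y * s = s * y := by
      have hm : y ∈ D ⊓ Subgroup.centralizer {s} :=
        (S1127.result h.setup).1 s r hs hr hsr ▸ (Subgroup.mem_inf.2 ⟨hyD, hyt⟩)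
      exact Subgroup.mem_centralizer_singleton_iff.1 (Subgroup.mem_inf.1 hm).2
    have hya := mem_D.1 hyD
    -- `y` fixes `a`, `b` and `s • b`
    have h3 : y • (s • (t • a)) = s • (t • a) := by rw [smul_smul, hys, mul_smul, hya.2]
    have hsb : s • (t • a) ≠ a := smul_a_ne h.setup hs.1 (b_ne h.setup)
    have hsb' : s • (t • a) ≠ t • a := fun e' =>
      hs.2.1 (inf_D h.setup ((mem_involutions_iff h).1 hs |>.1 |> Zc_le) ⟨hs.1, e'⟩)
    set x := g₀⁻¹ * y * g₀ with hx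
    have hxf : ∀ c : Ω, y • c = c → x • (g₀⁻¹ • c) = g₀⁻¹ • c := fun c hc => by
      rw [hx, mul_smul, mul_smul, smul_inv_smul, hc]
    have hxa : x • a = a := hg₀
    -- a fixed point of `x` other than `a`
    obtain ⟨c, hc, hxc⟩ : ∃ c, c ≠ a ∧ x • c = c := by
      by_cases e' : g₀⁻¹ • a = a
      · exact ⟨g₀⁻¹ • (t • a), fun e'' => b_ne h.setup (smul_left_cancel g₀⁻¹ (e''.trans e'.symm)),
          hxf _ hya.2⟩
      · exact ⟨g₀⁻¹ • a, e', hxf _ hya.1⟩
    obtain ⟨q, hq, rfl⟩ := exists_q h.setup hc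
    have hqH := h.setup.le hq
    set x' := q⁻¹ * x * q with hx'
    have hx'f : ∀ d : Ω, x • d = d → x' • (q⁻¹ • d) = q⁻¹ • d := fun d hd' => by
      rw [hx', mul_smul, mul_smul, smul_inv_smul, hd']
    have hqa : q⁻¹ • a = a := inv_mem hqH
    have hx'D : x' ∈ D := ⟨by
      have := hx'f a hxa
      rwa [hqa] at this, by
      have := hx'f _ hxc
      rwa [inv_smul_smul] at this⟩
    obtain ⟨k₀, hk₀, hk₀t⟩ := S1126.result h.setup {x'} (by rintro _ rfl; exact hx'D)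
      ⟨q⁻¹ • g₀⁻¹ • a, q⁻¹ • g₀⁻¹ • (t • a), q⁻¹ • g₀⁻¹ • (s • (t • a)),
        fun e' => b_ne h.setup (smul_left_cancel _ (smul_left_cancel _ e')).symm,
        fun e' => hsb (smul_left_cancel _ (smul_left_cancel _ e')).symm,
        fun e' => hsb' (smul_left_cancel _ (smul_left_cancel _ e')).symm,
        by
          rintro _ rfl
          exact ⟨hx'f _ (hxf _ hya.1), hx'f _ (hxf _ hya.2), hx'f _ (hxf _ h3)⟩⟩
    set z := k₀ * x' * k₀⁻¹ with hz
    have hzV : z ∈ D ⊓ Subgroup.centralizer {t} := Subgroup.mem_inf.2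
      ⟨mul_mem (mul_mem hk₀ hx'D) (inv_mem hk₀),
        Subgroup.mem_centralizer_singleton_iff.2 (hk₀t x' rfl)⟩
    have hzy : (k₀ * q⁻¹ * g₀⁻¹) * y * (k₀ * q⁻¹ * g₀⁻¹)⁻¹ = z := by
      rw [hz, hx', hx]; group
    obtain ⟨v₀, hv₀, hv₀e⟩ := S1134.result h.setup h.rank_two {y}
      (by rintro _ rfl; exact hwD j) (k₀ * q⁻¹ * g₀⁻¹)
      (by rw [Set.image_singleton, hzy]; rintro _ rfl; exact hzV)
    rw [Set.image_singleton, Set.image_singleton, hzy, Set.singleton_eq_singleton_iff] at hv₀e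
    have hzH : z ∈ H := (Subgroup.mem_inf.1 (Subgroup.mem_inf.1 hzV).1).1
    have hk₀H : k₀ ∈ H := (mem_D.1 hk₀).1
    have hv₀H : v₀ ∈ H := (Subgroup.mem_inf.1 (Subgroup.mem_inf.1 hv₀).1).1
    have hyH : y ∈ H := hya.1
    have e1 : φ ⟨z, hzH⟩ = φ ⟨x, hg₀⟩ := by
      rw [show (⟨z, hzH⟩ : H) = (⟨k₀, hk₀H⟩ * (⟨q, hqH⟩ : H)⁻¹) * ⟨x, hg₀⟩ *
        (⟨k₀, hk₀H⟩ * (⟨q, hqH⟩ : H)⁻¹)⁻¹ from Subtype.ext (by
          simp only [Subgroup.coe_mul, InvMemClass.coe_inv, hz, hx']; group),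
        map_mul, map_mul, map_inv, mul_comm (φ _) (φ ⟨x, hg₀⟩), mul_assoc, mul_inv_cancel, mul_one]
    have e2 : φ ⟨z, hzH⟩ = φ ⟨y, hyH⟩ := by
      rw [show (⟨z, hzH⟩ : H) = ⟨v₀, hv₀H⟩ * ⟨y, hyH⟩ * (⟨v₀, hv₀H⟩ : H)⁻¹ from
        Subtype.ext hv₀e.symm, map_mul, map_mul, map_inv, mul_comm (φ _) (φ ⟨y, hyH⟩), mul_assoc,
        mul_inv_cancel, mul_one]
    exact e1.symm.trans e2
  have hTw : T w = φ ⟨w, hw.1⟩ ^ (H).index := by
    rw [hT, MonoidHom.transfer_eq_prod_quotient_orbitRel_zpowers_quot]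
    have hterm : ∀ q : Quotient (orbitRel (Subgroup.zpowers w) (G ⧸ H)),
        φ ⟨q.out.out⁻¹ * w ^ Function.minimalPeriod (w • ·) q.out * q.out.out,
          QuotientGroup.out_conj_pow_minimalPeriod_mem H w q.out⟩ =
        φ ⟨w, hw.1⟩ ^ Function.minimalPeriod (w • ·) q.out := fun q => by
      rw [key, ← map_pow]; rfl
    rw [Finset.prod_congr rfl fun q _ => hterm q, Finset.prod_pow_eq_pow_sum]
    congr 1
    rw [Subgroup.index_eq_card, Nat.card_congr (Subgroup.quotientEquivSigmaZMod H w), Nat.card_sigma]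
    exact Finset.sum_congr rfl fun q _ => by rw [Nat.card_zmod]
  rw [hTw, hidx] at hTd
  have := congrArg Subtype.val hTd
  rw [SubmonoidClass.coe_pow, hφ hw.1 hsv] at this
  exact this

end Cfsg.Agent.Involutions.RankOne.U3
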