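import Cfsg.Agent.Lib.Involutions.RankOne.U3.Bridge.Galois

/-!
# The branch `|Q| = q³`, U8: pairs as coordinates of the points off the block

`L₀` is regular off the block; a point gets the image of a fixed vector, on which `W` acts by scalars.
-/

set_option autoImplicit false
set_option linter.unusedSectionVars false
set_option linter.style.haveILetI false

namespace Cfsg.Agent.Involutions.RankOne.U3

open MulAction Matrix Involutions.Basic

variable {F : Type*} [Field F] [Fintype F] [CharP F 2] {n : ℕ}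

/-- A matrix applied to a pair. -/
def act (M : SpecialLinearGroup (Fin 2) F) (X : F × F) : F × F :=
  (M 0 0 * X.1 + M 0 1 * X.2, M 1 0 * X.1 + M 1 1 * X.2)

theorem act_mul (A B : SpecialLinearGroup (Fin 2) F) (X : F × F) :
    act (A * B) X = act A (act B X) := by
  simp only [act, Torus.mul_entry]
  exact Prod.ext (by ring) (by ring)

theorem sq_eq_one {M : SpecialLinearGroup (Fin 2) F} (e : M 0 0 = M 1 1) : M * M = 1 := by
  refine sl_ext (Matrix.ext fun i j => ?_)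
  have h2 : (2 : F) = 0 := CharTwo.two_eq_zero
  have hd := Torus.det_eq M
  fin_cases i <;> fin_cases j <;> simp [Torus.mul_entry]
  · linear_combination hd + M 0 0 * e
  · linear_combination M 0 1 * M 1 1 * h2 + M 0 1 * e
  · linear_combination M 1 0 * M 1 1 * h2 + M 1 0 * e
  · linear_combination hd - M 1 1 * e

variable {G Ω : Type*} [Group G] [Finite G] [MulAction G Ω] [FaithfulSMul G Ω] {a : Ω} {t : G}
  {Q : Subgroup G}

local notation "H" => MulAction.stabilizer G a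
local notation "D" => (MulAction.stabilizer G a ⊓ MulAction.stabilizer G (t • a))

variable (h : Setting G Ω a t Q n) (fr : Frame a t Q n F) {ρ : F}
include h

theorem off_iff {u : G} (hu : u ∈ Q) : u • (t • a) ∈ blockB a t Q ↔ u ∈ Zc Q := by
  refine ⟨fun hc => ?_, fun hu' => Or.inr ⟨u, hu', rfl⟩⟩
  rcases hc with hc | ⟨z, hz, e⟩
  · exact absurd hc (smul_a_ne h.setup (h.setup.le hu) (b_ne h.setup))
  · exact q_unique h.setup (Zc_le hz) hu (b_ne h.setup) e ▸ hz

theorem D_block {d : G} (hd : d ∈ D) {c : Ω} (hc : c ∈ blockB a t Q) :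
    d • c ∈ blockB a t Q := by
  rcases hc with rfl | ⟨z, hz, rfl⟩
  · exact Or.inl hd.1
  · refine Or.inr ⟨d * z * d⁻¹, conj_mem_Zc h hd.1 hz, ?_⟩
    rw [mul_smul, mul_smul, show d⁻¹ • (t • a) = t • a from (inv_mem hd).2]

theorem D_block_iff {d : G} (hd : d ∈ D) {c : Ω} : d • c ∈ blockB a t Q ↔ c ∈ blockB a t Q :=
  ⟨fun hc => by simpa using D_block h (inv_mem hd) hc, D_block h hd⟩

/-- An element of `V` acts on `L₀` as its automorphism on the entries. -/
theorem rep_conj {v : G} (hv : v ∈ D) (hvt : t * v = v * t) {σ : RingAut F} (hs : Sem fr v σ 1)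
    {x : G} (hx : x ∈ L0 a t Q) :
    ∃ hm : v * x * v⁻¹ ∈ L0 a t Q, fr.rep ⟨v * x * v⁻¹, hm⟩ =
      SpecialLinearGroup.map (n := Fin 2) (σ : F ≃+* F).toRingHom (fr.rep ⟨x, hx⟩) := by
  obtain ⟨-, -, -, hs⟩ := hs
  have hval : ∀ (M : SpecialLinearGroup (Fin 2) F) (i j : Fin 2),
      (SpecialLinearGroup.map (n := Fin 2) (σ : F ≃+* F).toRingHom M) i j = σ (M i j) :=
    fun M i j => rfl
  induction hx using Subgroup.closure_induction with
  | mem x hx =>
    rcases hx with (hx | hx) | hx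
    · obtain ⟨z, hz, rfl⟩ := fr.coords.ζ_surj x hx
      have e := hs z hz
      rw [one_mul] at e
      refine ⟨e.symm ▸ mem_L0_of_Zc (fr.coords.ζ_mem _ (fix_pow hz σ)), ?_⟩
      simp only [e, fr.rep_ζ _ hz, fr.rep_ζ _ (fix_pow hz σ)]
      erw [fr.rep_ζ _ hz]
      refine sl_ext (Matrix.ext fun i j => ?_)
      rw [hval, mZ_val, mZ_val]
      fin_cases i <;> fin_cases j <;> simp
    · obtain ⟨e, he0, he, rfl⟩ := fr.coords.κ_surj x hx
      obtain ⟨e', he0', he', ek⟩ := fr.coords.κ_surj _ (conj_mem_Kc h hv hx)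
      have hee : e' = σ e := by
        refine CharTwo.sq_inj.1 ?_
        have h1 := fr.coords.conj e' 1 he0' he' (one_pow _)
        rw [mul_one, ek] at h1
        have h2 := hs 1 (one_pow _)
        have h3 := hs (e ^ 2) (sq_fixed_of he)
        rw [one_mul, map_one] at h2
        rw [one_mul, map_pow] at h3
        refine fr.coords.ζ_inj _ _ (sq_fixed_of he') (sq_fixed_of (fix_pow he σ)) ?_
        rw [← h1, ← h3, ← mul_one (e ^ 2), ← fr.coords.conj e 1 he0 he (one_pow _)]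
        nth_rewrite 1 [← h2]
        group
      subst hee
      refine ⟨ek ▸ mem_L0_of_Kc (fr.coords.κ_mem _ he0' he'), ?_⟩
      simp only [← ek, fr.rep_κ _ he0 he, fr.rep_κ _ he0' he']
      erw [fr.rep_κ _ he0 he]
      refine sl_ext (Matrix.ext fun i j => ?_)
      rw [hval, mK_val he0', mK_val he0]
      fin_cases i <;> fin_cases j <;> simp
    · obtain rfl : x = t := hx
      have e : v * x * v⁻¹ = x := by rw [← hvt, mul_inv_cancel_right]
      refine ⟨e.symm ▸ t_mem_L0, ?_⟩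
      simp only [e, fr.rep_t]
      erw [fr.rep_t]
      refine sl_ext (Matrix.ext fun i j => ?_)
      rw [hval, mT_val]
      fin_cases i <;> fin_cases j <;> simp
  | one =>
    refine ⟨by simp [one_mem], ?_⟩
    simp only [mul_one, mul_inv_cancel]
    rw [show (⟨1, one_mem _⟩ : L0 a t Q) = 1 from rfl, map_one, map_one]
  | mul x y hx hy ihx ihy =>
    obtain ⟨hmx, ex⟩ := ihx
    obtain ⟨hmy, ey⟩ := ihy
    have e : v * (x * y) * v⁻¹ = (v * x * v⁻¹) * (v * y * v⁻¹) := by group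
    refine ⟨e.symm ▸ mul_mem hmx hmy, ?_⟩
    simp only [e]
    rw [show (⟨_, mul_mem hmx hmy⟩ : L0 a t Q) = ⟨_, hmx⟩ * ⟨_, hmy⟩ from rfl,
      show (⟨x * y, mul_mem hx hy⟩ : L0 a t Q) = ⟨x, hx⟩ * ⟨y, hy⟩ from rfl, map_mul, map_mul,
      map_mul, ex, ey]
  | inv x hx ih =>
    obtain ⟨hm, ex⟩ := ih
    have e : v * x⁻¹ * v⁻¹ = (v * x * v⁻¹)⁻¹ := by group
    refine ⟨e.symm ▸ inv_mem hm, ?_⟩
    simp only [e]
    rw [show (⟨_, inv_mem hm⟩ : L0 a t Q) = (⟨_, hm⟩ : L0 a t Q)⁻¹ from rfl,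
      show (⟨x⁻¹, inv_mem hx⟩ : L0 a t Q) = (⟨x, hx⟩ : L0 a t Q)⁻¹ from rfl, map_inv, map_inv,
      map_inv, ex]

/-- The coordinates of the points off the block. -/
structure Coord (fr : Frame a t Q n F) (X : Ω → F × F) : Prop where
  inj : ∀ p p' : Ω, p ∉ blockB a t Q → p' ∉ blockB a t Q → X p = X p' → p = p'
  trace : ∀ p : Ω, p ∉ blockB a t Q →
    (X p).1 * (X p).2 ^ (2 ^ n) + (X p).1 ^ (2 ^ n) * (X p).2 = 1
  zeta : ∀ z, z ^ (2 ^ n) = z → ∀ p : Ω, p ∉ blockB a t Q →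
    X (fr.ζ z • p) = ((X p).1, z * (X p).1 + (X p).2)
  kappa : ∀ e, e ≠ 0 → e ^ (2 ^ n) = e → ∀ p : Ω, p ∉ blockB a t Q →
    X (fr.κ e • p) = (e⁻¹ * (X p).1, e * (X p).2)
  swap : ∀ p : Ω, p ∉ blockB a t Q → X (t • p) = ((X p).2, (X p).1)
  scalar : ∀ w ∈ W a t, ∃ c : F, c ^ (2 ^ n + 1) = 1 ∧
    ∀ p : Ω, p ∉ blockB a t Q → X (w • p) = (c * (X p).1, c * (X p).2)
  slope : ∀ v ∈ D, t * v = v * t → ∀ σ, Sem fr v σ 1 → σ ^ orderOf v = 1 →
    ∀ p : Ω, p ∉ blockB a t Q → (X (v • p)).2 / (X (v • p)).1 = σ ((X p).2 / (X p).1)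

theorem exists_off : ∃ p : Ω, p ∉ blockB a t Q := by
  haveI := finite_points h.setup
  obtain ⟨u, hu, huZ⟩ : ∃ u ∈ Q, u ∉ Zc Q := by
    by_contra hall
    push Not at hall
    have e : Q = Zc Q := le_antisymm hall Zc_le
    have h1 := card_Zc h
    rw [← e, h.card_Q] at h1
    rw [← pow_mul] at h1
    have := Nat.pow_right_injective le_rfl h1
    linarith [h.two_le]
  exact ⟨u • (t • a), fun hc => huZ ((off_iff h hu).1 hc)⟩

/-- U8. -/
theorem exists_coord (hl : Local fr ρ) (hW : W a t ≠ ⊥) : ∃ X : Ω → F × F, Coord fr X := by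
  classical
  have hF := fr.card_F
  obtain ⟨p₀, hp₀⟩ := exists_off h
  -- the element of `L₀` which carries `p₀` to a point
  choose el hel0 hel using fun p : {p : Ω // p ∉ blockB a t Q} => hl.regular_trans p₀ p hp₀ p.2
  have huniq : ∀ (p : {p : Ω // p ∉ blockB a t Q}) (x : G), x ∈ L0 a t Q → x • p₀ = p → x = el p :=
    fun p x hx e => by
      by_contra hne
      refine hl.regular_free _ (mul_mem (inv_mem (hel0 p)) hx)
        (fun e' => hne (inv_mul_eq_one.1 e').symm) p₀ hp₀ ?_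
      rw [mul_smul, e, ← hel p, inv_smul_smul]
  -- a generator of `W` and its eigenvector
  obtain ⟨⟨g, hg⟩, hgen⟩ := hl.W_cyclic.exists_generator
  have hg1 : g ≠ 1 := by
    rintro rfl
    refine hW ((Subgroup.eq_bot_iff_forall _).2 fun w hw => ?_)
    obtain ⟨i, hi⟩ := hgen ⟨w, hw⟩
    have := congrArg Subtype.val hi
    simpa using this.symm
  have hgp : g • p₀ ∉ blockB a t Q := fun e => hp₀ ((D_block_iff h (W_le hg)).1 e)
  set xg := el ⟨_, hgp⟩ with hxg
  set M := fr.rep ⟨xg, hel0 _⟩ with hM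
  have hMr : IsRational n M := (fr.rep_range M).1 ⟨_, rfl⟩
  have hpow : ∀ i : ℕ, xg ^ i • p₀ = g ^ i • p₀ := by
    intro i
    induction i with
    | zero => simp
    | succ i ih =>
      rw [pow_succ, mul_smul, hel, smul_smul, W_comm_L0 h hg (pow_mem (hel0 _) i), mul_smul, ih,
        smul_smul, ← pow_succ']
  have hm : xg ^ Nat.card (W a t) = 1 := by
    by_contra hne
    refine hl.regular_free _ (pow_mem (hel0 _) _) hne p₀ hp₀ ?_
    rw [hpow]
    have e := congrArg Subtype.val (pow_card_eq_one' (x := (⟨g, hg⟩ : W a t)))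
    rw [show g ^ Nat.card (W a t) = 1 from e, one_smul]
  have hMm : M ^ Nat.card (W a t) = 1 := by
    rw [hM, ← map_pow, show (⟨xg, hel0 _⟩ : L0 a t Q) ^ Nat.card (W a t) = 1 from Subtype.ext hm, map_one]
  have hM1 : M * M ≠ 1 := by
    intro e
    have hodd : Odd (Nat.card (W a t)) :=
      h.setup.odd_card.of_dvd_nat (Subgroup.card_dvd_of_le W_le)
    obtain ⟨j, hj⟩ := hodd
    have e1 : M = 1 := by
      have := hMm
      rwa [hj, pow_succ, pow_mul, sq, e, one_pow, one_mul] at this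
    have e2 : (⟨xg, hel0 _⟩ : L0 a t Q) = 1 := fr.rep_inj (by rw [← hM, e1, map_one])
    have e3 : g • p₀ = p₀ := by
      have := hel ⟨_, hgp⟩
      rw [← hxg, show xg = 1 from congrArg Subtype.val e2, one_smul] at this
      exact this.symm
    exact hp₀ ((fixed_iff h hg hg1).1 e3)
  have hcop : Nat.Coprime (2 ^ n - 1) (Nat.card (W a t)) := by
    refine Nat.Coprime.coprime_dvd_right (card_W_dvd h) ?_
    have h1 : 1 ≤ 2 ^ n := Nat.one_le_two_pow
    rw [show 2 ^ n + 1 = 2 + (2 ^ n - 1) by omega, Nat.coprime_add_self_right, Nat.coprime_two_right]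
    exact Nat.Even.sub_odd h1 (Nat.even_pow.2 ⟨even_two, by linarith [h.two_le]⟩) odd_one
  have hreal : ∀ c : F, c ≠ 0 → c ^ (2 ^ n) = c → c ^ Nat.card (W a t) = 1 → c = 1 := by
    intro c hc0 hc hcm
    have h1 : c ^ (2 ^ n - 1) = 1 := by
      have : c ^ (2 ^ n - 1) * c = 1 * c := by
        rw [← pow_succ, Nat.sub_add_cancel Nat.one_le_two_pow, hc, one_mul]
      exact mul_right_cancel₀ hc0 this
    have e1 := Nat.eq_one_of_dvd_coprimes hcop (orderOf_dvd_of_pow_eq_one h1)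
      (orderOf_dvd_of_pow_eq_one hcm)
    exact orderOf_eq_one_iff.1 e1
  have hM01 : M 0 1 ≠ 0 := by
    intro h0
    have hd := Torus.det_eq M
    rw [h0, zero_mul, add_zero] at hd
    have hp : ∀ i : ℕ, (M ^ i) 0 0 = M 0 0 ^ i := fun i => by
      induction i with
      | zero => simp
      | succ i ih =>
        rw [pow_succ', pow_succ', Torus.mul_entry, h0, zero_mul, add_zero, ih]
    have e1 : M 0 0 = 1 := hreal _ (left_ne_zero_of_mul_eq_one hd) (hMr 0 0) (by rw [← hp, hMm]; rfl)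
    rw [e1, one_mul] at hd
    exact hM1 (sq_eq_one (e1.trans hd.symm))
  obtain ⟨η, δ, hη, heig⟩ : ∃ η δ : F, η ^ (2 ^ n) ≠ η ∧ Torus.Eig M η δ := by
    rcases Torus.dichotomy hF hMr with h0 | ⟨z, δ, hz, he⟩ | hh
    · exact absurd h0 hM01
    · exfalso
      have hδr : δ ^ (2 ^ n) = δ := by
        rw [← he.1]; exact add_fixed (hMr 0 0) (mul_fixed (hMr 0 1) hz)
      have hp : ∀ i : ℕ, Torus.Eig (M ^ i) z (δ ^ i) := fun i => by
        induction i with
        | zero => rw [pow_zero, pow_zero]; exact Torus.eig_one z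
        | succ i ih => rw [pow_succ, pow_succ]; exact Torus.eig_mul ih he
      have hd := Torus.eig_det he
      have e1 : δ = 1 := hreal δ (left_ne_zero_of_mul_eq_one hd) hδr (by
        have := (hp (Nat.card (W a t))).1
        rw [hMm] at this
        simpa using this.symm)
      subst e1
      rw [one_mul] at hd
      refine hM1 (sq_eq_one (add_right_cancel (b := M 0 1 * z) ?_))
      rw [he.1, add_comm (M 1 1), hd]
    · exact hh
  have hδN : δ ^ (2 ^ n + 1) = 1 := Torus.eig_mem hF hMr hη heig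
  -- normalise the vector
  set s := η ^ (2 ^ n) + η with hs
  have hs0 : s ≠ 0 := fun e => hη (CharTwo.add_eq_zero.1 e)
  have hsr : s ^ (2 ^ n) = s := by rw [hs, Fld.conj_add, Fld.pow_qq hF, add_comm]
  obtain ⟨l, -, hl1⟩ := (Fld.pow_kernel h.two_le hF (m := 2 ^ n + 1) (k := 2 ^ n - 1)
    (by rw [mul_comm, Fld.sq_sub_one])).2 s⁻¹ (by
      have : s⁻¹ ^ (2 ^ n - 1) * s⁻¹ = 1 * s⁻¹ := by
        rw [← pow_succ, Nat.sub_add_cancel Nat.one_le_two_pow, inv_pow, hsr, one_mul]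
      exact mul_right_cancel₀ (inv_ne_zero hs0) this)
  set v₀ : F × F := (l, l * η) with hv₀
  let X : Ω → F × F := fun p =>
    if hp : p ∈ blockB a t Q then 0 else act (fr.rep ⟨el ⟨p, hp⟩, hel0 _⟩) v₀
  have hX : ∀ (p : Ω) (hp : p ∉ blockB a t Q), X p = act (fr.rep ⟨el ⟨p, hp⟩, hel0 _⟩) v₀ :=
    fun p hp => dif_neg hp
  have hL : ∀ (x : G) (hx : x ∈ L0 a t Q) (p : Ω), p ∉ blockB a t Q →
      X (x • p) = act (fr.rep ⟨x, hx⟩) (X p) := by
    intro x hx p hp
    have hxp : x • p ∉ blockB a t Q := fun e => hp ((block_iff h hW hx).1 e)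
    have e : x * el ⟨p, hp⟩ = el ⟨_, hxp⟩ :=
      huniq ⟨_, hxp⟩ _ (mul_mem hx (hel0 _)) (by rw [mul_smul, hel])
    rw [hX p hp, hX _ hxp, ← act_mul, ← map_mul]
    exact congrArg (fun y => act (fr.rep y) v₀) (Subtype.ext e.symm)
  have hXg : ∀ p : Ω, p ∉ blockB a t Q → X (g • p) = (δ * (X p).1, δ * (X p).2) := by
    intro p hp
    have hgp' : g • p ∉ blockB a t Q := fun e => hp ((D_block_iff h (W_le hg)).1 e)
    have e : el ⟨p, hp⟩ * xg = el ⟨_, hgp'⟩ := huniq ⟨_, hgp'⟩ _ (mul_mem (hel0 _) (hel0 _)) (by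
      rw [mul_smul, hel, smul_smul, W_comm_L0 h hg (hel0 _), mul_smul, hel])
    rw [hX _ hgp', hX p hp,
      show (⟨el ⟨_, hgp'⟩, hel0 _⟩ : L0 a t Q) = ⟨el ⟨p, hp⟩, hel0 _⟩ * ⟨xg, hel0 _⟩ from
        Subtype.ext e.symm, map_mul, act_mul, ← hM]
    have e2 : act M v₀ = (δ * l, δ * (l * η)) := by
      refine Prod.ext ?_ ?_ <;> simp only [act, hv₀]
      · linear_combination l * heig.1
      · linear_combination l * heig.2
    rw [e2]
    simp only [act, hv₀]
    exact Prod.ext (by ring) (by ring)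
  have hscalar : ∀ w ∈ W a t, ∃ c : F, c ^ (2 ^ n + 1) = 1 ∧
      ∀ p : Ω, p ∉ blockB a t Q → X (w • p) = (c * (X p).1, c * (X p).2) := by
    intro w hw
    obtain ⟨i, hi⟩ := mem_powers_iff_mem_zpowers.2 (hgen ⟨w, hw⟩)
    obtain rfl : g ^ i = w := congrArg Subtype.val hi
    refine ⟨δ ^ i, by rw [← pow_mul, mul_comm, pow_mul, hδN, one_pow], fun p hp => ?_⟩
    clear hi hw
    induction i generalizing p with
    | zero => simp
    | succ i ih =>
      rw [pow_succ, mul_smul, ih _ (fun e => hp ((D_block_iff h (W_le hg)).1 e)), hXg p hp, pow_succ]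
      simp only [mul_assoc]
  have htrace : ∀ p : Ω, p ∉ blockB a t Q →
      (X p).1 * (X p).2 ^ (2 ^ n) + (X p).1 ^ (2 ^ n) * (X p).2 = 1 := by
    intro p hp
    rw [hX p hp]
    set N := fr.rep ⟨el ⟨p, hp⟩, hel0 _⟩ with hN
    have hNr : IsRational n N := (fr.rep_range N).1 ⟨_, rfl⟩
    simp only [act, hv₀, Fld.conj_add, mul_pow, hNr 0 0, hNr 0 1, hNr 1 0, hNr 1 1]
    have hl2 : l ^ (2 ^ n) * l * s = 1 := by rw [← pow_succ, hl1, inv_mul_cancel₀ hs0]
    have h2 : (2 : F) = 0 := CharTwo.two_eq_zero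
    rw [hs] at hl2
    linear_combination (l ^ (2 ^ n) * l * (η ^ (2 ^ n) + η)) * Torus.det_eq N + hl2 +
      (l ^ (2 ^ n) * l * (N 0 0 * N 1 0 + N 0 1 * N 1 1 * (η * η ^ (2 ^ n)))) * h2
  have hx0 : ∀ p : Ω, p ∉ blockB a t Q → (X p).1 ≠ 0 := fun p hp e => by
    have := htrace p hp
    rw [e, zero_mul, zero_pow (Nat.two_pow_pos n).ne', zero_mul, add_zero] at this
    exact zero_ne_one this
  refine ⟨X, ⟨?_, htrace, ?_, ?_, ?_, hscalar, ?_⟩⟩
  · intro p p' hp hp' e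
    rw [hX p hp, hX p' hp'] at e
    set A := fr.rep ⟨el ⟨p, hp⟩, hel0 _⟩ with hA
    set B := fr.rep ⟨el ⟨p', hp'⟩, hel0 _⟩ with hB
    have hAr : IsRational n A := (fr.rep_range A).1 ⟨_, rfl⟩
    have hBr : IsRational n B := (fr.rep_range B).1 ⟨_, rfl⟩
    have hl0 : l ≠ 0 := fun e' => by
      rw [e', zero_pow (Nat.succ_ne_zero _), eq_comm, inv_eq_zero] at hl1
      exact hs0 hl1
    obtain ⟨e1, e2⟩ := Prod.ext_iff.1 e
    simp only [act, hv₀] at e1 e2
    have key : ∀ a b c d : F, a ^ (2 ^ n) = a → b ^ (2 ^ n) = b → c ^ (2 ^ n) = c → d ^ (2 ^ n) = d →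
        a * l + b * (l * η) = c * l + d * (l * η) → a = c ∧ b = d := by
      intro a b c d ha hb hc hd e'
      have e3 : a + b * η = c + d * η := mul_left_cancel₀ hl0 (by linear_combination e')
      have e4 : a + b * η ^ (2 ^ n) = c + d * η ^ (2 ^ n) := by
        have := congrArg (· ^ (2 ^ n)) e3
        simpa only [Fld.conj_add, mul_pow, ha, hb, hc, hd] using this
      have e5 : (b - d) * (η ^ (2 ^ n) - η) = 0 := by linear_combination e4 - e3
      rcases mul_eq_zero.1 e5 with e6 | e6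
      · obtain rfl := sub_eq_zero.1 e6
        exact ⟨add_right_cancel e3, rfl⟩
      · exact absurd (sub_eq_zero.1 e6) hη
    obtain ⟨k00, k01⟩ := key _ _ _ _ (hAr 0 0) (hAr 0 1) (hBr 0 0) (hBr 0 1) e1
    obtain ⟨k10, k11⟩ := key _ _ _ _ (hAr 1 0) (hAr 1 1) (hBr 1 0) (hBr 1 1) e2
    have eAB : A = B := sl_ext (Matrix.ext fun i j => by
      fin_cases i <;> fin_cases j
      exacts [k00, k01, k10, k11])
    rw [hA, hB] at eAB
    calc p = el ⟨p, hp⟩ • p₀ := (hel ⟨p, hp⟩).symm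
      _ = el ⟨p', hp'⟩ • p₀ :=
        congrArg (· • p₀) (congrArg Subtype.val (fr.rep_inj eAB) : el ⟨p, hp⟩ = el ⟨p', hp'⟩)
      _ = p' := hel ⟨p', hp'⟩
  · intro z hz p hp
    rw [hL _ (mem_L0_of_Zc (fr.coords.ζ_mem z hz)) p hp, fr.rep_ζ z hz]
    simp [act, mZ_val]
  · intro e he0 he p hp
    rw [hL _ (mem_L0_of_Kc (fr.coords.κ_mem e he0 he)) p hp, fr.rep_κ e he0 he]
    simp [act, mK_val he0]
  · intro p hp
    rw [hL _ t_mem_L0 p hp, fr.rep_t]
    simp [act, mT_val]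
  -- elements of `V`
  intro v hv hvt σ hsem hσv
  set S : Ω → F := fun p => (X p).2 / (X p).1 with hS
  have hvp₀ : v • p₀ ∉ blockB a t Q := fun e => hp₀ ((D_block_iff h hv).1 e)
  obtain ⟨hm', hrep⟩ := rep_conj h fr hv hvt hsem (hel0 ⟨_, hgp⟩)
  set Y := X (v • p₀) with hY
  have hY0 : Y.1 ≠ 0 := hx0 _ hvp₀
  set r := S (v • p₀) with hr
  have hval : ∀ (N : SpecialLinearGroup (Fin 2) F) (i j : Fin 2),
      (SpecialLinearGroup.map (n := Fin 2) (σ : F ≃+* F).toRingHom N) i j = σ (N i j) :=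
    fun N i j => rfl
  -- `(1, r)` is an eigenvector of the conjugated matrix
  obtain ⟨c, -, hc⟩ := hscalar _ (conj_mem_W h hv hg)
  have e1 : act (SpecialLinearGroup.map (n := Fin 2) (σ : F ≃+* F).toRingHom M) Y =
      (c * Y.1, c * Y.2) := by
    rw [hM, ← hrep, hY, ← hL _ hm' _ hvp₀, ← hc _ hvp₀]
    congr 1
    rw [← mul_smul, ← mul_smul, inv_mul_cancel_right, inv_mul_cancel_right, mul_smul, mul_smul,
      hel]
  obtain ⟨e1a, e1b⟩ := Prod.ext_iff.1 e1
  simp only [act, hval] at e1a e1b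
  have hYr : Y.2 = r * Y.1 := by rw [hr, hS]; exact (div_mul_cancel₀ _ hY0).symm
  rw [hYr] at e1a e1b
  have hq : σ (M 1 0) + σ (M 1 1) * r = (σ (M 0 0) + σ (M 0 1) * r) * r := by
    refine mul_right_cancel₀ hY0 ?_
    linear_combination e1b - r * e1a
  have hq' : σ (M 1 0) + σ (M 1 1) * σ η = (σ (M 0 0) + σ (M 0 1) * σ η) * σ η := by
    simp only [← map_mul, ← map_add]
    rw [heig.2, heig.1]
  have hq'' : σ (M 1 0) + σ (M 1 1) * σ η ^ (2 ^ n) =
      (σ (M 0 0) + σ (M 0 1) * σ η ^ (2 ^ n)) * σ η ^ (2 ^ n) := by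
    have := congrArg (· ^ (2 ^ n)) hq'
    simpa only [Fld.conj_add, mul_pow, fix_pow (hMr 1 0), fix_pow (hMr 1 1), fix_pow (hMr 0 0),
      fix_pow (hMr 0 1)] using this
  have hM01' : σ (M 0 1) ≠ 0 := (map_ne_zero σ).2 hM01
  have hcase : r = σ η ∨ r = σ η ^ (2 ^ n) := by
    have h2 : (2 : F) = 0 := CharTwo.two_eq_zero
    have hne : σ η ^ (2 ^ n) - σ η ≠ 0 := fun e => hη (σ.injective (by
      rw [map_pow]; exact sub_eq_zero.1 e))
    have f1 : σ (M 1 1) - σ (M 0 0) - σ (M 0 1) * (σ η ^ (2 ^ n) + σ η) = 0 := by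
      refine (mul_eq_zero.1 (show (σ η ^ (2 ^ n) - σ η) * _ = 0 from ?_)).resolve_left hne
      linear_combination hq'' - hq'
    have e3 : σ (M 0 1) * ((r - σ η) * (r - σ η ^ (2 ^ n))) = 0 := by
      linear_combination -hq + hq' + (r - σ η) * f1
    rcases mul_eq_zero.1 ((mul_eq_zero.1 e3).resolve_left hM01') with e4 | e4
    · exact Or.inl (sub_eq_zero.1 e4)
    · exact Or.inr (sub_eq_zero.1 e4)
  -- slopes
  obtain ⟨σ', hσ', hσ'2⟩ : ∃ σ' : F →+* F, r = σ' η ∧
      (σ' = (σ : F ≃+* F).toRingHom ∨ σ' = (iterateFrobenius F 2 n).comp (σ : F ≃+* F).toRingHom) := by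
    rcases hcase with e | e
    · exact ⟨_, e, Or.inl rfl⟩
    · exact ⟨(iterateFrobenius F 2 n).comp (σ : F ≃+* F).toRingHom, e, Or.inr rfl⟩
  have hfix : ∀ z : F, z ^ (2 ^ n) = z → σ' z = σ z := by
    intro z hz
    rcases hσ'2 with rfl | rfl
    · rfl
    · show iterateFrobenius F 2 n (σ z) = σ z
      rw [iterateFrobenius_def, fix_pow hz]
  have hstep : ∀ p : Ω, p ∉ blockB a t Q → S (v • p) = σ' (S p) := by
    intro p hp
    obtain ⟨hm2, hrep2⟩ := rep_conj h fr hv hvt hsem (hel0 ⟨p, hp⟩)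
    have e2 : v • p = (v * el ⟨p, hp⟩ * v⁻¹) • (v • p₀) := by
      rw [mul_smul, inv_smul_smul, mul_smul, hel]
    set N := fr.rep ⟨el ⟨p, hp⟩, hel0 _⟩ with hN
    have hNr : IsRational n N := (fr.rep_range N).1 ⟨_, rfl⟩
    show (X (v • p)).2 / (X (v • p)).1 = σ' ((X p).2 / (X p).1)
    rw [e2, hL _ hm2 _ hvp₀, hrep2, ← hY, hX p hp, ← hN]
    simp only [act, hv₀, hval, map_div₀, map_add, map_mul, hYr, hσ', hfix _ (hNr 0 0),
      hfix _ (hNr 0 1), hfix _ (hNr 1 0), hfix _ (hNr 1 1)]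
    have hl0 : σ' l ≠ 0 := (map_ne_zero σ').2 fun e' => by
      rw [e', zero_pow (Nat.succ_ne_zero _), eq_comm, inv_eq_zero] at hl1
      exact hs0 hl1
    rw [show σ (N 1 0) * Y.1 + σ (N 1 1) * (σ' η * Y.1) = (σ (N 1 0) + σ (N 1 1) * σ' η) * Y.1 by ring,
      show σ (N 0 0) * Y.1 + σ (N 0 1) * (σ' η * Y.1) = (σ (N 0 0) + σ (N 0 1) * σ' η) * Y.1 by ring,
      show σ (N 1 0) * σ' l + σ (N 1 1) * (σ' l * σ' η) = (σ (N 1 0) + σ (N 1 1) * σ' η) * σ' l by ring,
      show σ (N 0 0) * σ' l + σ (N 0 1) * (σ' l * σ' η) = (σ (N 0 0) + σ (N 0 1) * σ' η) * σ' l by ring,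
      mul_div_mul_right _ _ hY0, mul_div_mul_right _ _ hl0]
  rcases hσ'2 with rfl | rfl
  · exact hstep
  exfalso
  have hiter : ∀ i : ℕ, S (v ^ i • p₀) = ((iterateFrobenius F 2 n)^[i]) ((σ ^ i) (S p₀)) := by
    intro i
    induction i with
    | zero => simp
    | succ i ih =>
      have hvi : v ^ i • p₀ ∉ blockB a t Q := fun e => hp₀ ((D_block_iff h (pow_mem hv i)).1 e)
      rw [pow_succ', mul_smul, hstep _ hvi, ih, Function.iterate_succ_apply', pow_succ',
        RingAut.mul_apply]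
      show iterateFrobenius F 2 n (σ _) = _
      congr 1
      exact (Function.Commute.iterate_right (f := (σ : F → F)) (fun y => by
        simp [iterateFrobenius_def, map_pow]) i).eq _
  have hodd : Odd (orderOf v) := h.setup.odd_card.of_dvd_nat (Subgroup.orderOf_dvd_natCard _ hv)
  obtain ⟨j, hj⟩ := hodd
  have e5 := hiter (orderOf v)
  have h2id : (iterateFrobenius F 2 n)^[2] = (id : F → F) := funext fun y => by
    show iterateFrobenius F 2 n (iterateFrobenius F 2 n y) = y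
    rw [iterateFrobenius_def, iterateFrobenius_def, Fld.pow_qq hF]
  rw [pow_orderOf_eq_one, one_smul, hσv, RingAut.one_apply, hj, Function.iterate_add_apply,
    Function.iterate_one, Function.iterate_mul, h2id, Function.iterate_id, id] at e5
  refine zero_ne_one (?_ : (0 : F) = 1)
  rw [← htrace p₀ hp₀]
  have e6 : (X p₀).2 = S p₀ * (X p₀).1 := (div_mul_cancel₀ _ (hx0 _ hp₀)).symm
  rw [iterateFrobenius_def] at e5
  rw [e6, mul_pow, ← e5]
  linear_combination (-(S p₀ * (X p₀).1 * (X p₀).1 ^ (2 ^ n))) * (CharTwo.two_eq_zero : (2 : F) = 0)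

end Cfsg.Agent.Involutions.RankOne.U3
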